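import Cfsg.Agent.Lib.J1Uniq.Vectors
import Cfsg.Agent.Lib.J1Order.Values

/-!
The last relation: an element of order 5 commuting with an element of order 3.
-/

set_option autoImplicit false

namespace Cfsg.Agent.Lib.J1Uniq

open Cfsg.Agent.Lib.J1Order Cfsg.Agent.Lib.J1Order.Structure

universe u

/-- An involution inverting the 3-cycle. -/
def r01 : alternatingGroup (Fin 5) :=
  ⟨Equiv.swap 0 1 * Equiv.swap 3 4, Equiv.Perm.mem_alternatingGroup.2 (by decide)⟩

theorem r01_spec : r01 * r01 = 1 ∧ r01 * g3 * r01⁻¹ = g3⁻¹ ∧ r01 ≠ 1 ∧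
    (g5 * g5)⁻¹ * s0 * (g5 * g5) = r01 ∧ g3 ≠ 1 := by decide +kernel

theorem comm_g3 : ∀ d : Model, d * (1, g3) = (1, g3) * d →
    (∃ j : Fin 3, d = (1, g3 ^ (j : ℕ))) ∨ d ^ 3 = zed := by decide +kernel

theorem card_comm_g3 : Fintype.card {d : Model // d * (1, g3) = (1, g3) * d} = 6 := by decide +kernel

theorem model_pow : ∀ d : Model, d ^ 30 = 1 := by decide +kernel

theorem five_zero : ∀ c : alternatingGroup (Fin 5), c ^ 5 = 1 → c ≠ 1 →
    (s0 * s1) * c * (s0 * s1)⁻¹ = c⁻¹ → ∃ i : Fin 5, g5 = c ^ (i : ℕ) ∨ g5 * g3 = c ^ (i : ℕ) := by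
  decide +kernel

theorem five_one : ∀ c : alternatingGroup (Fin 5), c ^ 5 = 1 → c ≠ 1 → s1 * c * s1⁻¹ = c⁻¹ →
    ∃ i : Fin 5, g5⁻¹ * g3⁻¹ = c ^ (i : ℕ) ∨ g3⁻¹ * g5 * g5 = c ^ (i : ℕ) := by
  decide +kernel

theorem model_five : ∀ d : Model, d ^ 5 = 1 → d = (1, d.2) := by decide +kernel

theorem std_moves : app (lpow stdLin 1) (true, false, false) = (false, true, false) ∧
    app (lpow stdLin 3) (true, false, false) = (true, true, false) ∧
    app (lpow stdLin 6) (true, false, false) = (true, true, true) ∧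
    app (lpow stdLin 4) (true, false, false) = (false, false, true) := by decide +kernel

theorem mv_std : mv stdLin.1 = (1, s0) ∧ mv stdLin.2.1 = (1, s0 * s1) ∧
    mv stdLin.2.2 = zed * (1, s1) := by decide +kernel

theorem mv_moves : mv (false, true, false) = (1, s0) ∧ mv (true, true, false) = zed * (1, s0) ∧
    mv (true, true, true) = zed * (1, s0 * s1) ∧ mv (false, false, true) = (1, s1) := by decide +kernel

variable {G : Type u} [Group G] {t : G} (e : ↥(Subgroup.centralizer ({t} : Set G)) ≃* Model)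
  (ht : orderOf t = 2)

theorem exists_iota {x : G} (h : x * t = t * x) : ∃ d, x = iota e d :=
  ⟨e ⟨x, Subgroup.mem_centralizer_singleton_iff.2 h⟩, (congrArg Subtype.val
    (e.symm_apply_apply ⟨x, Subgroup.mem_centralizer_singleton_iff.2 h⟩)).symm⟩

variable [Finite G] [IsSimpleGroup G] (hP : ∃ P : Sylow 2 G, t ∈ P ∧ ∀ x ∈ P, x * t = t * x)
include ht hP e

theorem card_simple : Nat.card G = 175560 := by
  haveI : Fintype (Cfsg.IrrCharacter G) := Fintype.ofFinite _
  exact Values.card_eq e ht hP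

theorem orderOf_g3 : orderOf (psi e g3) = 3 := by
  haveI : Fact (Nat.Prime 3) := ⟨Nat.prime_three⟩
  refine orderOf_eq_prime (by rw [← map_pow, g3_pow, map_one]) fun h => ?_
  exact r01_spec.2.2.2.2 (psi_injective e (by rw [h, map_one]))

/-- An element of 3-power order commuting with the 3-element is a power of it. -/
theorem three_mem {a : G} (ha : a ^ 3 = 1) (hc : Commute a (psi e g3)) :
    a ∈ Subgroup.zpowers (psi e g3) := by
  set g := psi e g3 with hg
  have hcomm : ∀ (x : Subgroup.zpowers a) (y : Subgroup.zpowers g),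
      Commute ((Subgroup.zpowers a).subtype x) ((Subgroup.zpowers g).subtype y) := by
    rintro ⟨_, i, rfl⟩ ⟨_, j, rfl⟩
    exact hc.zpow_zpow i j
  set φ := MonoidHom.noncommCoprod (Subgroup.zpowers a).subtype (Subgroup.zpowers g).subtype hcomm
  have hdom : Nat.card (↥(Subgroup.zpowers a) × ↥(Subgroup.zpowers g)) ∣ 9 := by
    rw [Nat.card_prod, Nat.card_zpowers, Nat.card_zpowers, orderOf_g3 e ht hP]
    exact Nat.mul_dvd_mul_right (orderOf_dvd_of_pow_eq_one ha) 3
  have h9 : Nat.card φ.range ∣ 3 := by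
    have h1 : Nat.card φ.range ∣ 9 :=
      (Subgroup.card_range_dvd φ).trans hdom
    have h2 := Subgroup.card_subgroup_dvd_card φ.range
    rw [card_simple e ht hP] at h2
    have := Nat.dvd_gcd h1 h2
    rwa [show Nat.gcd 9 175560 = 3 by norm_num] at this
  have hle : Subgroup.zpowers g ≤ φ.range := fun y hy => ⟨(1, ⟨y, hy⟩), by simp [φ]⟩
  have ha' : a ∈ φ.range := ⟨(⟨a, Subgroup.mem_zpowers a⟩, 1), by simp [φ]⟩
  have heq : Subgroup.zpowers g = φ.range := by
    refine Subgroup.eq_of_le_of_card_ge hle ?_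
    rw [Nat.card_zpowers]
    exact (Nat.le_of_dvd (by norm_num) h9).trans_eq (orderOf_g3 e ht hP).symm
  rwa [heq]

/-- The odd part of the centraliser of the 3-element. -/
theorem exists_odd_part : ∃ U : Subgroup G, U ≤ Subgroup.centralizer ({psi e g3} : Set G) ∧
    Odd (Nat.card U) ∧
    (∀ x, x * psi e g3 = psi e g3 * x → Odd (orderOf x) → x ∈ U) ∧
    Nat.card ↥(Subgroup.centralizer ({psi e g3} : Set G)) = 2 * Nat.card U := by
  classical
  haveI : Fact (Nat.Prime 2) := ⟨Nat.prime_two⟩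
  set D := Subgroup.centralizer ({psi e g3} : Set G) with hD
  have htD : t ∈ D := Subgroup.mem_centralizer_singleton_iff.2 (psi_comm e g3).symm
  have hot : orderOf (⟨t, htD⟩ : D) = 2 := by rwa [← Subgroup.orderOf_coe]
  have hp2 : IsPGroup 2 (Subgroup.zpowers (⟨t, htD⟩ : D)) :=
    IsPGroup.of_card (n := 1) (by rw [Nat.card_zpowers, hot, pow_one])
  obtain ⟨P, hPt⟩ := hp2.exists_le_sylow
  have htP : (⟨t, htD⟩ : D) ∈ (P : Subgroup D) := hPt (Subgroup.mem_zpowers _)
  obtain ⟨Q, hQ⟩ := (P.2.map D.subtype).exists_le_sylow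
  have hQc : ∀ x ∈ (Q : Subgroup G), x * t = t * x := by
    obtain ⟨S, hS⟩ := exists_sylow e ht hP
    obtain ⟨k, hk⟩ := MulAction.exists_smul_eq G Q S
    have hmem : ∀ x ∈ (Q : Subgroup G), k * x * k⁻¹ ∈ syl e := fun x hx => by
      rw [← hS, ← hk, Sylow.coe_subgroup_smul]
      exact ⟨x, hx, rfl⟩
    intro x hx
    have h := syl_comm e ht (hmem x hx) (hmem t (hQ ⟨_, htP, rfl⟩))
    rw [show k * x * k⁻¹ * (k * t * k⁻¹) = k * (x * t) * k⁻¹ by group,
      show k * t * k⁻¹ * (k * x * k⁻¹) = k * (t * x) * k⁻¹ by group] at h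
    exact mul_left_cancel (mul_right_cancel h)
  have hcard2 : Nat.card P = 2 := by
    have hle : (P : Subgroup D).map D.subtype ≤ Subgroup.centralizer ({t} : Set G) ⊓ D := by
      refine le_inf (fun x hx => Subgroup.mem_centralizer_singleton_iff.2 (hQc x (hQ hx))) ?_
      rintro _ ⟨y, -, rfl⟩
      exact y.2
    have h6 : Nat.card ↥(Subgroup.centralizer ({t} : Set G) ⊓ D) = 6 := by
      rw [← card_comm_g3, ← Nat.card_eq_fintype_card]
      symm
      refine Nat.card_eq_of_bijective (fun d => ⟨iota e d.1, iota_mem e d.1, ?_⟩) ⟨?_, ?_⟩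
      · refine Subgroup.mem_centralizer_singleton_iff.2 ?_
        rw [← iota_psi, ← map_mul, ← map_mul, d.2]
      · intro a b h
        exact Subtype.ext (iota_injective e (Subtype.ext_iff.1 h :))
      · rintro ⟨x, hx1, hx2⟩
        obtain ⟨d, rfl⟩ := exists_iota e (Subgroup.mem_centralizer_singleton_iff.1 hx1)
        refine ⟨⟨d, iota_injective e ?_⟩, rfl⟩
        rw [map_mul, map_mul, iota_psi]
        exact Subgroup.mem_centralizer_singleton_iff.1 hx2
    have h1 := Subgroup.card_dvd_of_le hle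
    rw [Subgroup.card_map_of_injective D.subtype_injective, h6] at h1
    obtain ⟨n, hn⟩ := P.2.exists_card_eq
    have h2 : 2 ∣ Nat.card P := by
      have := Subgroup.orderOf_dvd_natCard _ htP
      rwa [hot] at this
    rw [hn] at h1 h2 ⊢
    rcases n with _ | _ | n
    · norm_num at h2
    · norm_num
    · exfalso
      have : 4 ∣ 6 := dvd_trans ⟨2 ^ n, by ring⟩ h1
      norm_num at this
  have hcyc : IsCyclic (P : Subgroup D) := isCyclic_of_prime_card hcard2
  have hmin : (Nat.card D).minFac = 2 := by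
    rw [Nat.minFac_eq_two_iff, ← hot]
    exact orderOf_dvd_natCard _
  have hN := IsCyclic.normalizer_le_centralizer hmin hcyc
  have hcompl := MonoidHom.ker_transferSylow_isComplement' P hN
  set K := (MonoidHom.transferSylow P hN).ker with hK
  have hK2 : K.index = 2 := by rw [hcompl.symm.index_eq_card, hcard2]
  have hodd : Odd (Nat.card K) := by
    rw [Nat.odd_iff, ← Nat.two_dvd_ne_zero]
    exact MonoidHom.not_dvd_card_ker_transferSylow P hN
  have hKcard : Nat.card ↥(K.map D.subtype) = Nat.card K :=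
    Subgroup.card_map_of_injective D.subtype_injective
  refine ⟨K.map D.subtype, ?_, by rwa [hKcard], ?_, ?_⟩
  · rintro _ ⟨y, -, rfl⟩
    exact y.2
  · intro x hx hox
    have hxD : x ∈ D := Subgroup.mem_centralizer_singleton_iff.2 hx
    obtain ⟨m, hm⟩ := hox
    refine ⟨⟨x, hxD⟩, ?_, rfl⟩
    have hsq := Subgroup.mul_self_mem_of_index_two hK2 (⟨x, hxD⟩ : D)
    have hpow : (⟨x, hxD⟩ : D) = ((⟨x, hxD⟩ : D) * ⟨x, hxD⟩) ^ (m + 1) := by
      rw [← pow_two, ← pow_mul, show 2 * (m + 1) = orderOf x + 1 by omega, pow_succ,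
        ← Subgroup.orderOf_mk x hxD, pow_orderOf_eq_one, one_mul]
    show (⟨x, hxD⟩ : D) ∈ K
    rw [hpow]
    exact pow_mem hsq _
  · rw [hKcard, ← K.index_mul_card, hK2]

omit [IsSimpleGroup G] hP in
theorem comm_t_of_mem {x : G} (hx : x ∈ Subgroup.zpowers (psi e g3)) : x * t = t * x := by
  obtain ⟨i, rfl⟩ := hx
  exact (Commute.zpow_left (psi_comm e g3) i)

/-- Some element of the standard position gives the last relation. -/
theorem exists_relation {w : G} (hw : IsSeven e w) :
    Commute (conjEl e w 1 g5) (psi e g3) ∨ Commute (conjEl e w 1 (g5 * g3)) (psi e g3) ∨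
      Commute (conjEl e w 3 (g5⁻¹ * g3⁻¹)) (psi e g3) ∨
      Commute (conjEl e w 3 (g3⁻¹ * g5 * g5)) (psi e g3) := by
  classical
  obtain ⟨hr2, hrg, hr1, hra, -⟩ := r01_spec
  haveI : Fact (Nat.Prime 2) := ⟨Nat.prime_two⟩
  haveI : Fact (Nat.Prime 3) := ⟨Nat.prime_three⟩
  obtain ⟨U, hUD, hUodd, hUmem, hUcard⟩ := exists_odd_part e ht hP
  set g := psi e g3 with hg
  have hcg : ∀ x ∈ U, x * g = g * x := fun x hx => Subgroup.mem_centralizer_singleton_iff.1 (hUD hx)
  have hgU : g ∈ U := hUmem _ rfl (by rw [hg, orderOf_g3 e ht hP]; decide)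
  have hoddU : ∀ x ∈ U, Odd (orderOf x) := fun x hx =>
    Odd.of_dvd_nat hUodd (Subgroup.orderOf_dvd_natCard _ hx)
  -- the part centralised by `t`
  have hUt : ∀ x ∈ U, x * t = t * x → x ∈ Subgroup.zpowers g := by
    intro x hx hxt
    obtain ⟨d, rfl⟩ := exists_iota e hxt
    rcases comm_g3 d (iota_injective e (by rw [map_mul, map_mul, iota_psi]; exact hcg _ hx)) with
      ⟨j, rfl⟩ | h3
    · rw [iota_psi, map_pow]
      exact pow_mem (Subgroup.mem_zpowers g) _
    · exfalso
      have htU : t ∈ U := by rw [← iota_zed e ht, ← h3, map_pow]; exact pow_mem hx 3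
      have := hoddU t htU
      rw [ht] at this
      exact absurd this (by decide)
  -- the two involutions inverting `g`
  have hψr2 : psi e r01 * psi e r01 = 1 := by rw [← map_mul, hr2, map_one]
  have hkey : ∀ al : Bool, ∀ σ : G, σ = (if al then t * psi e r01 else psi e r01) →
      σ * σ = 1 ∧ σ * g * σ⁻¹ = g⁻¹ ∧ σ * t = t * σ ∧ σ ≠ 1 := by
    intro al σ hσ
    have hgr : psi e r01 * g * (psi e r01)⁻¹ = g⁻¹ := by rw [hg, conj_psi, hrg, map_inv]
    cases al <;> simp only [Bool.false_eq_true, if_false, if_true] at hσ <;> subst hσ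
    · exact ⟨hψr2, hgr, psi_comm e _, fun h => hr1 (psi_injective e (by rw [h, map_one]))⟩
    · refine ⟨?_, ?_, ?_, ?_⟩
      · rw [show t * psi e r01 * (t * psi e r01) = t * (psi e r01 * t) * psi e r01 by group, psi_comm,
          ← mul_assoc t t, t_mul_self ht, one_mul, hψr2]
      · rw [show t * psi e r01 * g * (t * psi e r01)⁻¹ = t * (psi e r01 * g * (psi e r01)⁻¹) * t⁻¹ by group,
          hgr, hg, ← map_inv, ← psi_comm, mul_inv_cancel_right]
      · rw [mul_assoc, psi_comm]
      · intro h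
        exact psi_ne_t e ht r01 ((inv_eq_of_mul_eq_one_right h).symm.trans (t_inv ht))
  have hnorm : ∀ σ : G, σ * σ = 1 → σ * g * σ⁻¹ = g⁻¹ → ∀ x ∈ U, σ * x * σ⁻¹ ∈ U := by
    intro σ hσ hσg x hx
    refine hUmem _ ?_ ?_
    · have h : σ * (x * g) * σ⁻¹ = σ * (g * x) * σ⁻¹ := by rw [hcg x hx]
      rw [show σ * (x * g) * σ⁻¹ = σ * x * σ⁻¹ * (σ * g * σ⁻¹) by group,
        show σ * (g * x) * σ⁻¹ = σ * g * σ⁻¹ * (σ * x * σ⁻¹) by group, hσg] at h
      exact (Commute.inv_right_iff.1 (show Commute (σ * x * σ⁻¹) g⁻¹ from h)).eq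
    · rw [← MulAut.conj_apply, MulEquiv.orderOf_eq]
      exact hoddU x hx
  -- elements centralised by such an involution have order dividing five
  have hfive : ∀ σ : G, σ * σ = 1 → σ ≠ 1 → σ * g * σ⁻¹ = g⁻¹ →
      ∀ x ∈ U, σ * x = x * σ → x ^ 5 = 1 := by
    intro σ hσ hσ1 hσg x hx hσx
    obtain ⟨y, hy⟩ := isConj_iff.1 (isConj_t e ht hP (orderOf_eq_prime (by rw [pow_two, hσ]) hσ1))
    have hyx : y⁻¹ * x * y * t = t * (y⁻¹ * x * y) := by
      calc y⁻¹ * x * y * t = y⁻¹ * (x * (y * t * y⁻¹)) * y := by group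
        _ = y⁻¹ * ((y * t * y⁻¹) * x) * y := by rw [hy, hσx]
        _ = t * (y⁻¹ * x * y) := by group
    obtain ⟨d, hd⟩ := exists_iota e hyx
    have h30 : x ^ 30 = 1 := by
      have h : (y⁻¹ * x * y) ^ 30 = iota e d ^ 30 := by rw [hd]
      rw [← map_pow, model_pow, map_one, show y⁻¹ * x * y = y⁻¹ * x * y⁻¹⁻¹ by group, conj_pow,
        conj_eq_one_iff] at h
      exact h
    have h15 : orderOf x ∣ 15 :=
      ((Nat.coprime_two_right.2 (hoddU x hx)).dvd_mul_left (m := 2) (n := 15)).1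
        (orderOf_dvd_of_pow_eq_one h30)
    have ha3 : (x ^ 5) ^ 3 = 1 := by
      rw [← pow_mul]; exact orderOf_dvd_iff_pow_eq_one.1 h15
    obtain ⟨i, hi⟩ := three_mem e ht hP ha3 ((show Commute x g from hcg x hx).pow_left 5)
    have hc : Commute σ (x ^ 5) := (show Commute σ x from hσx).pow_right 5
    have h2 : (x ^ 5) ^ 2 = 1 := by
      have : σ * x ^ 5 * σ⁻¹ = (x ^ 5)⁻¹ := by
        rw [← hi, ← hg, ← conj_zpow, hσg, inv_zpow]
      rw [hc.eq, mul_inv_cancel_right] at this
      rw [pow_two]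
      nth_rewrite 1 [this]
      exact inv_mul_cancel _
    calc x ^ 5 = (x ^ 5) ^ 3 * ((x ^ 5) ^ 2)⁻¹ := by group
      _ = 1 := by rw [ha3, h2, inv_one, mul_one]
  -- one of the two involutions has a fixed point
  have hex : ∃ al : Bool, ∃ x ∈ U,
      (if al then t * psi e r01 else psi e r01) * x = x * (if al then t * psi e r01 else psi e r01) ∧
        x ≠ 1 := by
    by_contra hno
    push Not at hno
    have hinv : ∀ al : Bool, ∀ x ∈ U, (if al then t * psi e r01 else psi e r01) * x *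
        (if al then t * psi e r01 else psi e r01)⁻¹ = x⁻¹ := by
      intro al
      obtain ⟨h2, hgi, -, -⟩ := hkey al _ rfl
      have hfix := hno al
      generalize (if al then t * psi e r01 else psi e r01) = σ at h2 hgi hfix ⊢
      let φ : ↥U →* ↥U :=
        { toFun := fun x => ⟨σ * x * σ⁻¹, hnorm σ h2 hgi x x.2⟩
          map_one' := Subtype.ext (by simp)
          map_mul' := fun a b => Subtype.ext (by simp [mul_assoc]) }
      have hfree : MonoidHom.FixedPointFree φ := fun x hx => by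
        refine Subtype.ext (hfix x x.2 ?_)
        have := congrArg Subtype.val hx
        exact mul_inv_eq_iff_eq_mul.1 this
      have hinvol : Function.Involutive φ := fun x => Subtype.ext (by
        show σ * (σ * x * σ⁻¹) * σ⁻¹ = x
        rw [show σ * (σ * (x : G) * σ⁻¹) * σ⁻¹ = σ * σ * x * (σ * σ)⁻¹ by group, h2]
        group)
      intro x hx
      exact congrArg Subtype.val (congrFun (hfree.coe_eq_inv_of_involutive hinvol) ⟨x, hx⟩)
    have hUt' : ∀ x ∈ U, x ∈ Subgroup.zpowers g := by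
      intro x hx
      refine hUt x hx ?_
      have h1 := hinv false x hx
      have h2 := hinv true x hx
      simp only [Bool.false_eq_true, if_false, if_true] at h1 h2
      rw [show t * psi e r01 * x * (t * psi e r01)⁻¹ = t * (psi e r01 * x * (psi e r01)⁻¹) * t⁻¹ by group,
        h1, mul_inv_eq_iff_eq_mul] at h2
      exact (Commute.inv_left_iff.1 (show Commute x⁻¹ t from h2.symm)).eq
    have hU3 : Nat.card U = 3 := by
      rw [le_antisymm hUt' ((Subgroup.zpowers_le).2 hgU), Nat.card_zpowers, hg, orderOf_g3 e ht hP]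
    rw [hU3] at hUcard
    set D := Subgroup.centralizer ({g} : Set G) with hD
    set R := Subgroup.normalizer ((Subgroup.zpowers g : Subgroup G) : Set G) with hR
    have hDR : D ≤ R := by
      intro x hx
      refine Subgroup.mem_normalizer_fintype (S := ((Subgroup.zpowers g : Subgroup G) : Set G)) ?_
      rintro _ ⟨i, rfl⟩
      exact ⟨i, by
        show g ^ i = x * g ^ i * x⁻¹
        rw [((show Commute x g from Subgroup.mem_centralizer_singleton_iff.1 hx).zpow_right i).eq,
          mul_inv_cancel_right]⟩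
    have hrR : psi e r01 ∈ R := by
      refine Subgroup.mem_normalizer_fintype (S := ((Subgroup.zpowers g : Subgroup G) : Set G)) ?_
      rintro _ ⟨i, rfl⟩
      refine ⟨-i, ?_⟩
      show g ^ (-i) = psi e r01 * g ^ i * (psi e r01)⁻¹
      have hgi : psi e r01 * g * (psi e r01)⁻¹ = g⁻¹ := (hkey false _ rfl).2.1
      rw [← conj_zpow, hgi, inv_zpow, zpow_neg]
    have hgsq : g ^ 3 = 1 := by rw [hg, ← map_pow, g3_pow, map_one]
    have hcases : ∀ b ∈ R, b ∈ D ∨ b * g * b⁻¹ = g⁻¹ := by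
      intro b hb
      obtain ⟨i, hi⟩ := (Subgroup.mem_normalizer_iff.1 hb g).1 (Subgroup.mem_zpowers g)
      simp only at hi
      have hlt := Int.emod_lt_of_pos i (show (0 : ℤ) < 3 by norm_num)
      have hnn := Int.emod_nonneg i (show (3 : ℤ) ≠ 0 by norm_num)
      have hmod : g ^ (i % 3) = g ^ i := by
        have := zpow_mod_orderOf g i
        rwa [show orderOf g = 3 from orderOf_g3 e ht hP] at this
      rw [← hmod] at hi
      interval_cases h : i % 3
      · exfalso
        rw [zpow_zero] at hi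
        have := conj_eq_one_iff.1 hi.symm
        exact r01_spec.2.2.2.2 (psi_injective e (by rw [map_one]; exact this))
      · left
        rw [zpow_one] at hi
        exact Subgroup.mem_centralizer_singleton_iff.2 (mul_inv_eq_iff_eq_mul.1 hi.symm)
      · right
        rw [← hi]
        show g ^ (2 : ℤ) = g⁻¹
        rw [eq_inv_iff_mul_eq_one, ← hgsq]
        group
    have hidx : (D.subgroupOf R).index = 2 := by
      rw [Subgroup.index_eq_two_iff]
      refine ⟨⟨psi e r01, hrR⟩, fun b => ?_⟩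
      have hgi : psi e r01 * g * (psi e r01)⁻¹ = g⁻¹ := (hkey false _ rfl).2.1
      have hne : g⁻¹ ≠ g := fun h => by
        have h2 : g ^ 2 = 1 := by rw [pow_two]; nth_rewrite 1 [← h]; exact inv_mul_cancel g
        have := orderOf_dvd_of_pow_eq_one h2
        rw [show orderOf g = 3 from orderOf_g3 e ht hP] at this
        norm_num at this
      simp only [Subgroup.mem_subgroupOf, Subgroup.coe_mul, hD, Subgroup.mem_centralizer_singleton_iff,
        ← mul_inv_eq_iff_eq_mul]
      rw [show (b : G) * psi e r01 * g * ((b : G) * psi e r01)⁻¹ =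
        (b : G) * (psi e r01 * g * (psi e r01)⁻¹) * (b : G)⁻¹ by group, hgi]
      rcases hcases b b.2 with hb | hb
      · have hb' : (b : G) * g * (b : G)⁻¹ = g :=
          mul_inv_eq_iff_eq_mul.2 (Subgroup.mem_centralizer_singleton_iff.1 hb)
        refine Or.inr ⟨hb', ?_⟩
        rw [← conj_inv, hb']
        exact hne
      · refine Or.inl ⟨?_, by rw [hb]; exact hne⟩
        rw [← conj_inv, hb, inv_inv]
    have hRcard : Nat.card R = 12 := by
      rw [← Subgroup.card_mul_index (D.subgroupOf R), hidx,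
        Nat.card_congr (Subgroup.subgroupOfEquivOfLe hDR).toEquiv, hUcard]
    have hG := card_simple e ht hP
    have hf : (175560 : ℕ).factorization 3 = 1 := by
      rw [show (175560 : ℕ) = 3 ^ 1 * 58520 by norm_num, Nat.factorization_mul (by norm_num) (by norm_num),
        Finsupp.add_apply, Nat.factorization_eq_zero_of_not_dvd (show ¬ 3 ∣ 58520 by norm_num),
        Nat.Prime.factorization_pow Nat.prime_three, Finsupp.single_eq_same]
    let P : Sylow 3 G := Sylow.ofCard (Subgroup.zpowers g) (by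
      rw [Nat.card_zpowers, hg, orderOf_g3 e ht hP, hG, hf, pow_one])
    have h1 : Nat.card (Sylow 3 G) % 3 = 1 := card_sylow_modEq_one 3 G
    have h2 : (Subgroup.normalizer ((P : Subgroup G) : Set G)).index = Nat.card (Sylow 3 G) :=
      (P.card_eq_index_normalizer).symm
    have h3 : Nat.card R * R.index = 175560 := by rw [R.card_mul_index, hG]
    rw [hRcard] at h3
    have h4 : R.index = Nat.card (Sylow 3 G) := h2
    omega
  obtain ⟨al, u, hu, hσu, hu1⟩ := hex
  obtain ⟨hσ2, hσg, hσt, hσ1⟩ := hkey al _ rfl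
  set σ := (if al then t * psi e r01 else psi e r01) with hσ
  have hu5 : u ^ 5 = 1 := hfive σ hσ2 hσ1 hσg u hu hσu
  set f := u⁻¹ * (t * u * t⁻¹) with hfdef
  have htg : Commute t g := (psi_comm e g3).symm
  have htut : t * u * t⁻¹ ∈ U := by
    refine hUmem _ ?_ ?_
    · exact ((htg.mul_left (show Commute u g from hcg u hu)).mul_left htg.inv_left).eq
    · rw [← MulAut.conj_apply, MulEquiv.orderOf_eq]
      exact hoddU u hu
  have hfU : f ∈ U := mul_mem (inv_mem hu) htut
  have hf1 : f ≠ 1 := by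
    intro h
    rw [hfdef, inv_mul_eq_one, eq_comm, mul_inv_eq_iff_eq_mul] at h
    have h3 : u ^ 3 = 1 := by
      obtain ⟨i, rfl⟩ := hUt u hu h.symm
      simp only
      rw [← zpow_natCast, ← zpow_mul, mul_comm, zpow_mul, zpow_natCast, hg, ← map_pow, g3_pow, map_one,
        one_zpow]
    refine hu1 ?_
    calc u = (u ^ 3) ^ 2 * (u ^ 5)⁻¹ := by group
      _ = 1 := by rw [h3, hu5, one_pow, inv_one, mul_one]
  have hσf : Commute σ f :=
    (Commute.inv_right hσu).mul_right (((show Commute σ t from hσt).mul_right hσu).mul_right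
      (show Commute σ t from hσt).inv_right)
  have hf5 : f ^ 5 = 1 := hfive σ hσ2 hσ1 hσg f hfU hσf
  have htf : t * f * t⁻¹ = f⁻¹ := by
    rw [hfdef, t_inv ht]
    simp only [mul_inv_rev, inv_inv, t_inv ht]
    calc t * (u⁻¹ * (t * u * t)) * t = t * u⁻¹ * t * u * (t * t) := by group
      _ = t * u⁻¹ * t * u := by rw [t_mul_self ht, mul_one]
      _ = t * (u⁻¹ * t) * u := by group
  have hfg : Commute f g := hcg f hfU
  -- transport to the centraliser of `t`
  set k : ℕ := if al then 3 else 1 with hk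
  have hA : Acts e w stdLin := acts_of_basis e
    (by rw [toG, toG, mv_basis.1, iota_zed e ht, mv_std.1, iota_psi,
      hw.conj_t])
    (by rw [toG, toG, mv_basis.2.1, iota_psi, mv_std.2.1,
      iota_psi, hw.conj_s0])
    (by rw [toG, toG, mv_basis.2.2.1, iota_psi, mv_std.2.2,
      map_mul, iota_zed e ht, iota_psi, hw.conj_s1])
  have hwt : ∀ n : ℕ, w ^ n * t * (w ^ n)⁻¹ = toG e (app (lpow stdLin n) (true, false, false)) := by
    intro n
    rw [← Acts.pow e hA n (true, false, false), toG, mv_basis.1, iota_zed e ht]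
  obtain ⟨hm1, hm3, hm6, hm4⟩ := std_moves
  obtain ⟨hv1, hv3, hv6, hv4⟩ := mv_moves
  set x := (psi e (g5 * g5))⁻¹ * w ^ k with hx
  have hxσ : x * t * x⁻¹ = σ := by
    rw [show x * t * x⁻¹ = (psi e (g5 * g5))⁻¹ * (w ^ k * t * (w ^ k)⁻¹) * ((psi e (g5 * g5))⁻¹)⁻¹ by
      rw [hx]; group, hwt, ← map_inv, hk, hσ, toG]
    cases al <;> simp only [Bool.false_eq_true, if_false, if_true]
    · rw [hm1, hv1, iota_psi, conj_psi, inv_inv, hra]
    · rw [hm3, hv3, map_mul, iota_zed e ht, iota_psi, conj_t_psi, inv_inv, hra]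
  have hfc : x⁻¹ * f * x * t = t * (x⁻¹ * f * x) := by
    calc x⁻¹ * f * x * t = x⁻¹ * (f * (x * t * x⁻¹)) * x := by group
      _ = x⁻¹ * (x * t * x⁻¹ * f) * x := by rw [hxσ, hσf.eq]
      _ = t * (x⁻¹ * f * x) := by group
  obtain ⟨d, hd⟩ := exists_iota e hfc
  have hd5 : d ^ 5 = 1 := iota_injective e (by
    rw [map_pow, map_one, ← hd, show x⁻¹ * f * x = x⁻¹ * f * x⁻¹⁻¹ by group, conj_pow, hf5]; group)
  rw [model_five d hd5, iota_psi] at hd
  set c := d.2 with hc
  have hc5 : c ^ 5 = 1 := congrArg Prod.snd hd5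
  have hc1 : c ≠ 1 := fun h => hf1 (by
    rw [h, map_one] at hd
    have h2 := congrArg (fun z => x * z * x⁻¹) hd
    simpa [mul_assoc] using h2)
  have hfx : f = x * psi e c * x⁻¹ := by rw [← hd]; group
  have hconjEl : ∀ i : ℕ, conjEl e w k (c ^ i) = f ^ i := fun i => by
    rw [hfx, conj_pow, ← map_pow]; rfl
  have hyv : (w ^ k)⁻¹ * t * w ^ k * psi e c * ((w ^ k)⁻¹ * t * w ^ k)⁻¹ = (psi e c)⁻¹ := by
    have hxt : x⁻¹ * t * x = (w ^ k)⁻¹ * t * w ^ k := by
      rw [hx, show ((psi e (g5 * g5))⁻¹ * w ^ k)⁻¹ * t * ((psi e (g5 * g5))⁻¹ * w ^ k) =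
        (w ^ k)⁻¹ * (psi e (g5 * g5) * t) * (psi e (g5 * g5))⁻¹ * w ^ k by group, psi_comm]
      group
    rw [← hxt, ← hd]
    have h2 : x⁻¹ * (t * f * t⁻¹) * x = x⁻¹ * f⁻¹ * x := by rw [htf]
    calc x⁻¹ * t * x * (x⁻¹ * f * x) * (x⁻¹ * t * x)⁻¹ = x⁻¹ * (t * f * t⁻¹) * x := by group
      _ = x⁻¹ * f⁻¹ * x := h2
      _ = (x⁻¹ * f * x)⁻¹ := by group
  have hinvpow : ∀ n m : ℕ, n + m = 7 → (w ^ n)⁻¹ * t * w ^ n = toG e (app (lpow stdLin m) (true, false, false)) := by
    intro n m hnm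
    have hinv : (w ^ n)⁻¹ = w ^ m := inv_eq_of_mul_eq_one_right (by rw [← pow_add, hnm, hw.pow])
    rw [← hwt m, ← hinv, inv_inv]
  have hstrip : ∀ v : alternatingGroup (Fin 5), t * psi e v * psi e c * (t * psi e v)⁻¹ =
      psi e (v * c * v⁻¹) := fun v => by
    rw [show t * psi e v * psi e c * (t * psi e v)⁻¹ = t * (psi e v * psi e c * (psi e v)⁻¹) * t⁻¹ by group,
      conj_psi, ← psi_comm, mul_inv_cancel_right]
  cases al
  · have hk1 : k = 1 := by simp [hk]
    rw [hk1, hinvpow 1 6 rfl, hm6, toG, hv6, map_mul, iota_zed e ht, iota_psi, hstrip, ← map_inv] at hyv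
    obtain ⟨i, hi | hi⟩ := five_zero c hc5 hc1 (psi_injective e hyv)
    · refine Or.inl ?_
      rw [hi, ← hk1, hconjEl]
      exact hfg.pow_left _
    · refine Or.inr (Or.inl ?_)
      rw [hi, ← hk1, hconjEl]
      exact hfg.pow_left _
  · have hk3 : k = 3 := by simp [hk]
    rw [hk3, hinvpow 3 4 rfl, hm4, toG, hv4, iota_psi, conj_psi, ← map_inv] at hyv
    obtain ⟨i, hi | hi⟩ := five_one c hc5 hc1 (psi_injective e hyv)
    · refine Or.inr (Or.inr (Or.inl ?_))
      rw [hi, ← hk3, hconjEl]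
      exact hfg.pow_left _
    · refine Or.inr (Or.inr (Or.inr ?_))
      rw [hi, ← hk3, hconjEl]
      exact hfg.pow_left _

end Cfsg.Agent.Lib.J1Uniq
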