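import Cfsg.Agent.Lib.J1Uniq.Vectors

/-!
The normaliser of the Sylow subgroup of order 8 and an element of order 7 in standard position.
-/

set_option autoImplicit false

namespace Cfsg.Agent.Lib.J1Uniq

open Cfsg.Agent.Lib.J1Order Cfsg.Agent.Lib.J1Order.Structure

universe u

/-- The elements of the model normalising the four-group. -/
def NormFour (d : Model) : Prop := ∀ v : Vec, ∃ u : Vec, d * mv v * d⁻¹ = mv u

instance (d : Model) : Decidable (NormFour d) := inferInstanceAs (Decidable (∀ v : Vec, ∃ u : Vec, _))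

theorem card_normFour : Fintype.card {d : Model // NormFour d} = 24 := by decide +kernel

/-- The automorphism of the alternating group induced by `(0 1)`. -/
def twist : MulAut (alternatingGroup (Fin 5)) := MulAut.conjNormal (Equiv.swap 0 1)

theorem twist_spec : twist.symm s0 = s0 ∧ twist.symm s1 = s0 * s1 ∧ twist.symm g3 = g3⁻¹ ∧
    twist.symm (s0 * s1) = s1 := by
  refine ⟨?_, ?_, ?_, ?_⟩ <;> apply Subtype.ext <;>
    simp only [twist, MulAut.conjNormal_symm_apply] <;> decide +kernel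

variable {G : Type u} [Group G] {t : G} (e : ↥(Subgroup.centralizer ({t} : Set G)) ≃* Model)
  (ht : orderOf t = 2)
include ht

theorem toG_basis : toG e (true, false, false) = t ∧ toG e (false, true, false) = psi e s0 ∧
    toG e (false, false, true) = psi e s1 := by
  refine ⟨?_, ?_, ?_⟩
  · rw [toG, mv_basis.1, iota_zed e ht]
  · rw [toG, mv_basis.2.1, iota_psi]
  · rw [toG, mv_basis.2.2.1, iota_psi]

theorem mem_syl_iff {x : G} : x ∈ syl e ↔ ∃ v, x = toG e v := by
  constructor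
  · rintro ⟨_, ⟨d, ⟨-, hd⟩, rfl⟩, rfl⟩
    obtain ⟨v, hv⟩ := exists_mv d hd
    exact ⟨v, by rw [toG, hv]; rfl⟩
  · rintro ⟨v, rfl⟩
    exact ⟨_, ⟨mv v, ⟨trivial, mv_four v⟩, rfl⟩, rfl⟩

theorem t_mem_syl : t ∈ syl e := (mem_syl_iff e ht).2 ⟨_, (toG_basis e ht).1.symm⟩

variable [Finite G] [IsSimpleGroup G] (hP : ∃ P : Sylow 2 G, t ∈ P ∧ ∀ x ∈ P, x * t = t * x)
include hP e

theorem conj_in_normalizer {x : G} (hx : x ∈ syl e) (hx1 : x ≠ 1) :
    ∃ n ∈ Subgroup.normalizer ((syl e : Subgroup G) : Set G), n * t * n⁻¹ = x := by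
  haveI : Fact (Nat.Prime 2) := ⟨Nat.prime_two⟩
  obtain ⟨S, hS⟩ := exists_sylow e ht hP
  haveI : IsMulCommutative ↥(S : Subgroup G) := ⟨⟨fun a b => Subtype.ext (syl_comm e ht
    (hS ▸ a.2) (hS ▸ b.2))⟩⟩
  obtain ⟨v, rfl⟩ := (mem_syl_iff e ht).1 hx
  have hxx : toG e v * toG e v = 1 := by
    have : ∀ v : Vec, vadd v v = (false, false, false) := by decide
    rw [← toG_add, this, toG_zero]
  obtain ⟨c, hc⟩ := isConj_iff.1 (isConj_t e ht hP (orderOf_eq_prime (by rw [pow_two, hxx]) hx1))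
  obtain ⟨n, hn, he⟩ := Sylow.conj_eq_normalizer_conj_of_mem S t c⁻¹ (hS ▸ t_mem_syl e ht : t ∈ (S : Subgroup G))
    (by rw [inv_inv, hc]; show toG e v ∈ (S : Subgroup G); rw [hS]; exact hx)
  rw [inv_inv, hc] at he
  exact ⟨n⁻¹, hS ▸ inv_mem hn, by rw [inv_inv, he]⟩

theorem card_normalizer : Nat.card ↥(Subgroup.normalizer ((syl e : Subgroup G) : Set G)) = 168 := by
  classical
  set N := Subgroup.normalizer ((syl e : Subgroup G) : Set G) with hN
  letI : MulAction ↥N G := MulAction.compHom G ((MulAut.conj : G →* MulAut G).comp N.subtype)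
  have hsmul : ∀ (n : ↥N) (x : G), n • x = (n : G) * x * (n : G)⁻¹ := fun _ _ => rfl
  have horbit : MulAction.orbit ↥N t = ((syl e : Subgroup G) : Set G) \ {1} := by
    ext x
    simp only [Set.mem_sdiff, SetLike.mem_coe, Set.mem_singleton_iff]
    constructor
    · rintro ⟨n, rfl⟩
      show n • t ∈ syl e ∧ ¬ n • t = 1
      rw [hsmul]
      exact ⟨(Subgroup.mem_normalizer_iff.1 n.2 t).1 (t_mem_syl e ht),
        fun h => t_ne_one ht (conj_eq_one_iff.1 h)⟩
    · rintro ⟨hx, hx1⟩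
      obtain ⟨n, hn, he⟩ := conj_in_normalizer e ht hP hx hx1
      exact ⟨⟨n, hn⟩, (hsmul _ _).trans he⟩
  have h7 : (MulAction.orbit ↥N t).ncard = 7 := by
    rw [horbit, Set.ncard_sdiff_singleton_of_mem (one_mem (syl e)), ← Nat.card_coe_set_eq]
    show Nat.card ↥(syl e) - 1 = 7
    rw [card_syl e]
  have hstab : Nat.card (MulAction.stabilizer ↥N t) = Nat.card {d : Model // NormFour d} := by
    symm
    have hnorm : ∀ d : Model, NormFour d ↔ iota e d ∈ N := by
      intro d
      constructor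
      · intro hd
        refine Subgroup.mem_normalizer_fintype (S := ((syl e : Subgroup G) : Set G)) fun x hx => ?_
        obtain ⟨v, rfl⟩ := (mem_syl_iff e ht).1 hx
        obtain ⟨u, hu⟩ := hd v
        exact (mem_syl_iff e ht).2 ⟨u, by rw [toG, toG, ← hu, map_mul, map_mul, map_inv]⟩
      · intro hd v
        obtain ⟨u, hu⟩ := (mem_syl_iff e ht).1 ((Subgroup.mem_normalizer_iff.1 hd _).1 ((mem_syl_iff e ht).2 ⟨v, rfl⟩))
        exact ⟨u, iota_injective e (by rw [map_mul, map_mul, map_inv]; exact hu)⟩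
    refine Nat.card_eq_of_bijective (fun d => ⟨⟨iota e d.1, (hnorm d.1).1 d.2⟩, ?_⟩) ⟨?_, ?_⟩
    · rw [MulAction.mem_stabilizer_iff, hsmul, mul_inv_eq_iff_eq_mul]
      exact Subgroup.mem_centralizer_singleton_iff.1 (iota_mem e d.1)
    · intro a b h
      have h2 : (⟨iota e a.1, (hnorm a.1).1 a.2⟩ : ↥N) = ⟨iota e b.1, (hnorm b.1).1 b.2⟩ :=
        congrArg Subtype.val h
      have h' := congrArg (fun z : ↥N => (z : G)) h2
      exact Subtype.ext (iota_injective e h')
    · rintro ⟨⟨n, hn⟩, hs⟩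
      rw [MulAction.mem_stabilizer_iff, hsmul, mul_inv_eq_iff_eq_mul] at hs
      have hC : n ∈ Subgroup.centralizer ({t} : Set G) := Subgroup.mem_centralizer_singleton_iff.2 hs
      have hι : iota e (e ⟨n, hC⟩) = n := congrArg Subtype.val (e.symm_apply_apply _)
      exact ⟨⟨e ⟨n, hC⟩, (hnorm _).2 (hι.symm ▸ hn)⟩, Subtype.ext (Subtype.ext hι)⟩
  rw [← Subgroup.card_mul_index (MulAction.stabilizer ↥N t), MulAction.index_stabilizer, h7, hstab,
    Nat.card_eq_fintype_card]
  rw [show Fintype.card {d : Model // NormFour d} = 24 by convert card_normFour]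

/-- An element of order 7 normalising the Sylow subgroup and normalised by the 3-cycle. -/
theorem exists_seven_normalized : ∃ w : G, w ^ 7 = 1 ∧ w ≠ 1 ∧
    (∀ x ∈ syl e, w * x * w⁻¹ ∈ syl e) ∧ ∃ n : Fin 7, psi e g3 * w * (psi e g3)⁻¹ = w ^ (n : ℕ) := by
  classical
  haveI : Fact (Nat.Prime 7) := ⟨by norm_num⟩
  haveI : Fact (Nat.Prime 3) := ⟨Nat.prime_three⟩
  have hcard := card_normalizer e ht hP
  set N := Subgroup.normalizer ((syl e : Subgroup G) : Set G) with hN
  have hgN : psi e g3 ∈ N := by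
    refine Subgroup.mem_normalizer_fintype (S := ((syl e : Subgroup G) : Set G)) fun x hx => ?_
    obtain ⟨v, rfl⟩ := (mem_syl_iff e ht).1 hx
    exact (mem_syl_iff e ht).2 ⟨app gLin v, by
      rw [toG, toG, ← gLin_spec, map_mul, map_mul, map_inv, iota_psi]⟩
  let P₀ : Sylow 7 ↥N := Classical.arbitrary _
  have hf : (168 : ℕ).factorization 7 = 1 := by
    rw [show (168 : ℕ) = 7 ^ 1 * 24 by norm_num, Nat.factorization_mul (by norm_num) (by norm_num),
      Finsupp.add_apply, Nat.factorization_eq_zero_of_not_dvd (show ¬ 7 ∣ 24 by norm_num),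
      Nat.Prime.factorization_pow (by norm_num), Finsupp.single_eq_same]
  have hP7 : ∀ P : Sylow 7 ↥N, Nat.card P = 7 := fun P => by
    rw [P.card_eq_multiplicity, hcard, hf, pow_one]
  have hidx : (P₀ : Subgroup ↥N).index = 24 := by
    have h := (P₀ : Subgroup ↥N).card_mul_index
    rw [hP7 P₀, hcard] at h
    omega
  have hn : Nat.card (Sylow 7 ↥N) = 1 ∨ Nat.card (Sylow 7 ↥N) = 8 := by
    have h1 := hidx ▸ P₀.card_dvd_index
    have h2 : Nat.card (Sylow 7 ↥N) % 7 = 1 := card_sylow_modEq_one 7 ↥N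
    have hd : ∀ x ∈ Nat.divisors 24, x % 7 = 1 → x = 1 ∨ x = 8 := by decide +kernel
    exact hd _ (Nat.mem_divisors.2 ⟨h1, by norm_num⟩) h2
  have h3 : IsPGroup 3 (Subgroup.zpowers (⟨psi e g3, hgN⟩ : ↥N)) := by
    intro x
    obtain ⟨k, hk⟩ := x.2
    have h0 : (⟨psi e g3, hgN⟩ : ↥N) ^ 3 = 1 := Subtype.ext (by
      show psi e g3 ^ 3 = 1
      rw [← map_pow, g3_pow, map_one])
    refine ⟨1, Subtype.ext ?_⟩
    rw [pow_one, SubmonoidClass.coe_pow, ← hk, ← zpow_natCast, ← zpow_mul, mul_comm, zpow_mul,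
      zpow_natCast, h0, one_zpow]
    rfl
  obtain ⟨P, hPfix⟩ := h3.nonempty_fixed_point_of_prime_not_dvd_card (Sylow 7 ↥N)
    (by rcases hn with h | h <;> rw [h] <;> norm_num)
  have hfix := hPfix ⟨_, Subgroup.mem_zpowers _⟩
  change (⟨psi e g3, hgN⟩ : ↥N) • P = P at hfix
  have hne : (P : Subgroup ↥N) ≠ ⊥ := fun h => by
    have := hP7 P
    rw [h, Subgroup.card_bot] at this
    omega
  obtain ⟨⟨w, hwP⟩, hw1⟩ : ∃ w : (P : Subgroup ↥N), w ≠ 1 := by
    haveI : Nontrivial (P : Subgroup ↥N) := (Subgroup.nontrivial_iff_ne_bot _).2 hne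
    exact exists_ne 1
  have hw7 : (⟨w, hwP⟩ : (P : Subgroup ↥N)) ^ 7 = 1 := by
    have := pow_card_eq_one' (x := (⟨w, hwP⟩ : (P : Subgroup ↥N)))
    rwa [hP7 P] at this
  have hconj : (⟨psi e g3, hgN⟩ : ↥N) * w * (⟨psi e g3, hgN⟩ : ↥N)⁻¹ ∈ (P : Subgroup ↥N) := by
    suffices h : (⟨psi e g3, hgN⟩ : ↥N) * w * (⟨psi e g3, hgN⟩ : ↥N)⁻¹ ∈
        (((⟨psi e g3, hgN⟩ : ↥N) • P : Sylow 7 ↥N) : Subgroup ↥N) by rwa [hfix] at h
    rw [Sylow.coe_subgroup_smul]
    exact ⟨w, hwP, rfl⟩
  obtain ⟨k, hk⟩ := (mem_zpowers_of_prime_card (hP7 P) hw1 :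
    (⟨_, hconj⟩ : (P : Subgroup ↥N)) ∈ Subgroup.zpowers (⟨w, hwP⟩ : (P : Subgroup ↥N)))
  have hw7' : (w : G) ^ 7 = 1 := congrArg (fun z : (P : Subgroup ↥N) => ((z : ↥N) : G)) hw7
  refine ⟨(w : G), hw7', fun h => hw1 (Subtype.ext (Subtype.ext h)),
    fun x hx => (Subgroup.mem_normalizer_iff.1 w.2 x).1 hx, ⟨(k % 7).toNat, by omega⟩, ?_⟩
  have hk' := congrArg (fun z : (P : Subgroup ↥N) => ((z : ↥N) : G)) hk
  simp only [SubgroupClass.coe_zpow] at hk'
  show _ = (w : G) ^ ((k % 7).toNat : ℕ)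
  rw [← zpow_natCast, Int.toNat_of_nonneg (by omega), show (k % 7 : ℤ) = k % (orderOf (w : G) : ℤ) by
    rw [orderOf_eq_prime hw7' fun h => hw1 (Subtype.ext (Subtype.ext h))]; rfl, zpow_mod_orderOf, hk']
  rfl

/-- An element of order 7 in standard position, after replacing the isomorphism. -/
theorem exists_seven : ∃ (e' : ↥(Subgroup.centralizer ({t} : Set G)) ≃* Model) (w : G), IsSeven e' w := by
  haveI : Fact (Nat.Prime 7) := ⟨by norm_num⟩
  obtain ⟨w, hw7, hw1, hwN, n, hn⟩ := exists_seven_normalized e ht hP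
  obtain ⟨L, hL⟩ : ∃ L : Lin, Acts e w L := by
    obtain ⟨a, ha⟩ := (mem_syl_iff e ht).1 (hwN _ ((mem_syl_iff e ht).2 ⟨(true, false, false), rfl⟩))
    obtain ⟨b, hb⟩ := (mem_syl_iff e ht).1 (hwN _ ((mem_syl_iff e ht).2 ⟨(false, true, false), rfl⟩))
    obtain ⟨c, hc⟩ := (mem_syl_iff e ht).1 (hwN _ ((mem_syl_iff e ht).2 ⟨(false, false, true), rfl⟩))
    exact ⟨(a, b, c), acts_of_basis e ha hb hc⟩
  have hg : Acts e (psi e g3) gLin := fun v => by
    rw [toG, toG, ← gLin_spec, map_mul, map_mul, map_inv, iota_psi]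
  have hg2 : psi e g3 ^ 2 = (psi e g3)⁻¹ := by
    rw [eq_inv_iff_mul_eq_one, ← pow_succ, ← map_pow, g3_pow, map_one]
  have hrel : ∀ (x : G) (M : Lin) (m : ℕ), Acts e x M → psi e g3 * x * (psi e g3)⁻¹ = x ^ m →
      lcomp gLin (lcomp M (lpow gLin 2)) = lpow M m := by
    intro x M m hx h
    refine Acts.unique e (x := x ^ m) ?_ (Acts.pow e hx m)
    rw [← h, ← hg2, mul_assoc]
    exact Acts.mul e hg (Acts.mul e hx (Acts.pow e hg 2))
  have hL7 : lpow L 7 = lid := Acts.unique e (x := (1 : G)) (hw7 ▸ Acts.pow e hL 7) (acts_one e)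
  have hL1 : L ≠ lid := by
    intro h
    subst h
    have h1 := hL (true, false, false)
    rw [show app lid (true, false, false) = (true, false, false) by decide, (toG_basis e ht).1] at h1
    have hd := Subgroup.orderOf_dvd_natCard _
      (Subgroup.mem_centralizer_singleton_iff.2 (mul_inv_eq_iff_eq_mul.1 h1))
    rw [orderOf_eq_prime hw7 hw1, card_centralizer e] at hd
    norm_num at hd
  obtain ⟨j, hj⟩ := lin_classify L hL7 hL1 ⟨n, hrel w L n hL hn⟩
  set w' := w ^ (j : ℕ) with hw'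
  have hA : Acts e w' (lpow L j) := Acts.pow e hL j
  have hw'7 : w' ^ 7 = 1 := by rw [hw', ← pow_mul, mul_comm, pow_mul, hw7, one_pow]
  have hn' : psi e g3 * w' * (psi e g3)⁻¹ = w' ^ (n : ℕ) := by
    rw [hw', ← conj_pow, hn, ← pow_mul, ← pow_mul, mul_comm]
  have hw'1 : ∀ M : Lin, Acts e w' M → M ≠ lid → w' ≠ 1 := fun M hM hM1 h =>
    hM1 (Acts.unique e (h ▸ hM) (acts_one e))
  obtain ⟨hb1, hb2, hb3⟩ := toG_basis e ht
  rcases hj with hj | hj <;> rw [hj] at hA
  · refine ⟨e, w', hw'7, hw'1 _ hA (by decide), ?_, ?_, ?_, ?_⟩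
    · have := hA (true, false, false)
      rwa [hb1, show app stdLin (true, false, false) = (false, true, false) by decide, hb2] at this
    · have := hA (false, true, false)
      rw [hb2, show app stdLin (false, true, false) = (false, true, true) by decide] at this
      rw [this, toG, show mv (false, true, true) = (1, s0 * s1) by decide +kernel, iota_psi]
    · have := hA (false, false, true)
      rw [hb3, show app stdLin (false, false, true) = (true, false, true) by decide] at this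
      rw [this, toG, show mv (true, false, true) = zed * (1, s1) by decide +kernel, map_mul,
        iota_zed e ht, iota_psi]
    · rw [hn', std_power n (hrel w' _ n hA hn')]
      rfl
  · let e' := e.trans (MulEquiv.prodCongr (MulEquiv.refl _) twist)
    have hψ : ∀ b, psi e' b = psi e (twist.symm b) := fun b => rfl
    obtain ⟨t0, t1, tg, t01⟩ := twist_spec
    refine ⟨e', w', hw'7, hw'1 _ hA (by decide), ?_, ?_, ?_, ?_⟩
    · have := hA (true, false, false)
      rw [hψ, t0]
      rwa [hb1, show app altLin (true, false, false) = (false, true, false) by decide, hb2] at this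
    · have := hA (false, true, false)
      rw [hψ, hψ, t0, t01]
      rwa [hb2, show app altLin (false, true, false) = (false, false, true) by decide, hb3] at this
    · have := hA (false, true, true)
      rw [show app altLin (false, true, true) = (true, true, true) by decide] at this
      rw [hψ, t1]
      simp only [toG] at this
      rwa [show mv (false, true, true) = (1, s0 * s1) by decide +kernel,
        show mv (true, true, true) = zed * (1, s0 * s1) by decide +kernel, map_mul, iota_zed e ht,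
        iota_psi] at this
    · rw [hψ, tg, map_inv, inv_inv]
      have h4 : psi e g3 * w' * (psi e g3)⁻¹ = w' ^ 4 := by
        rw [hn', alt_power n (hrel w' _ n hA hn')]; rfl
      have h5 : ((psi e g3)⁻¹ * w' * psi e g3) ^ 4 = w' := by
        rw [show (psi e g3)⁻¹ * w' * psi e g3 = (psi e g3)⁻¹ * w' * ((psi e g3)⁻¹)⁻¹ by group, conj_pow,
          ← h4]
        group
      have h6 : ((psi e g3)⁻¹ * w' * psi e g3) ^ 7 = 1 := by
        rw [show (psi e g3)⁻¹ * w' * psi e g3 = (psi e g3)⁻¹ * w' * ((psi e g3)⁻¹)⁻¹ by group, conj_pow,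
          hw'7]
        group
      conv_rhs => rw [← h5]
      rw [← pow_mul, show 4 * 2 = 7 + 1 by norm_num, pow_add, h6, one_mul, pow_one]

end Cfsg.Agent.Lib.J1Uniq
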