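import Cfsg.Agent.Lib.J1Uniq.Action
import Cfsg.Agent.Lib.J1Uniq.Seven
import Cfsg.Agent.Lib.J1Uniq.Relation

/-!
Uniqueness of a simple group with a 2-central involution whose centraliser is `2 × A₅`.
-/

set_option autoImplicit false

namespace Cfsg.Agent.Lib.J1Uniq

open Cfsg.Agent.Lib.J1Order

universe u v

theorem exists_table_hom {G : Type u} [Group G] [Finite G] [IsSimpleGroup G] {t : G}
    (e : ↥(Subgroup.centralizer ({t} : Set G)) ≃* Model) (ht : orderOf t = 2)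
    (hP : ∃ P : Sylow 2 G, t ∈ P ∧ ∀ x ∈ P, x * t = t * x) :
    ∃ ρ : G →* Equiv.Perm (Fin 1463), Function.Injective ρ ∧ ρ.range = Subgroup.closure tablePerms := by
  obtain ⟨e', w, hw⟩ := exists_seven e ht hP
  exact exists_hom e' ht hP hw (relation_main e' ht hw (exists_relation e' ht hP hw))

theorem nonempty_mulEquiv {G : Type u} {H : Type v} [Group G] [Finite G] [IsSimpleGroup G] [Group H]
    [Finite H] [IsSimpleGroup H] {t : G} {x : H}
    (e : ↥(Subgroup.centralizer ({t} : Set G)) ≃* Model) (ht : orderOf t = 2)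
    (hP : ∃ P : Sylow 2 G, t ∈ P ∧ ∀ y ∈ P, y * t = t * y)
    (f : ↥(Subgroup.centralizer ({x} : Set H)) ≃* Model) (hx : orderOf x = 2)
    (hQ : ∃ P : Sylow 2 H, x ∈ P ∧ ∀ y ∈ P, y * x = x * y) : Nonempty (G ≃* H) := by
  obtain ⟨ρ, hρ, hρr⟩ := exists_table_hom e ht hP
  obtain ⟨σ, hσ, hσr⟩ := exists_table_hom f hx hQ
  exact ⟨(MonoidHom.ofInjective hρ).trans
    ((MulEquiv.subgroupCongr (hρr.trans hσr.symm)).trans (MonoidHom.ofInjective hσ).symm)⟩

/-- An involution in a group with abelian Sylow 2-subgroups is 2-central. -/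
theorem twoCentral_of_abelian {G : Type u} [Group G] [Finite G] {t : G} (S : Sylow 2 G)
    (hS : IsMulCommutative (S : Subgroup G)) (ht : orderOf t = 2) :
    ∃ P : Sylow 2 G, t ∈ P ∧ ∀ x ∈ P, x * t = t * x := by
  haveI : Fact (Nat.Prime 2) := ⟨Nat.prime_two⟩
  obtain ⟨Q, hQ⟩ := (IsPGroup.of_card (n := 1) (by rw [Nat.card_zpowers, ht, pow_one]) :
    IsPGroup 2 (Subgroup.zpowers t)).exists_le_sylow
  have htQ : t ∈ (Q : Subgroup G) := hQ (Subgroup.mem_zpowers t)
  refine ⟨Q, htQ, fun x hx => ?_⟩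
  let φ : ↥(Q : Subgroup G) ≃* ↥(S : Subgroup G) := Sylow.equiv Q S
  have h : (⟨x, hx⟩ : ↥(Q : Subgroup G)) * ⟨t, htQ⟩ = ⟨t, htQ⟩ * ⟨x, hx⟩ :=
    φ.injective (by rw [map_mul, map_mul]; exact hS.is_comm.comm _ _)
  exact congrArg Subtype.val h

/-- An involution with centraliser `2 × A₅` in a group of order 175560 is 2-central. -/
theorem twoCentral_of_card {G : Type u} [Group G] [Finite G] {t : G}
    (e : ↥(Subgroup.centralizer ({t} : Set G)) ≃* Model) (ht : orderOf t = 2)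
    (hG : Nat.card G = 175560) : ∃ P : Sylow 2 G, t ∈ P ∧ ∀ x ∈ P, x * t = t * x := by
  haveI : Fact (Nat.Prime 2) := ⟨Nat.prime_two⟩
  have hf : (175560 : ℕ).factorization 2 = 3 := by
    rw [show (175560 : ℕ) = 2 ^ 3 * 21945 by norm_num, Nat.factorization_mul (by norm_num) (by norm_num),
      Finsupp.add_apply, Nat.factorization_eq_zero_of_not_dvd (show ¬ 2 ∣ 21945 by norm_num),
      Nat.Prime.factorization_pow Nat.prime_two, Finsupp.single_eq_same]
  refine ⟨Sylow.ofCard (Structure.syl e) (by rw [Structure.card_syl e, hG, hf]; rfl), ?_, ?_⟩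
  · exact (Structure.mem_syl e ht).2 ⟨1, one_mem _, Or.inr (by simp)⟩
  · intro x hx
    exact Structure.syl_comm e ht hx ((Structure.mem_syl e ht).2 ⟨1, one_mem _, Or.inr (by simp)⟩)

end Cfsg.Agent.Lib.J1Uniq
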