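import Cfsg.Agent.Lib.J1Uniq.Interp
import Cfsg.Agent.Lib.J1Uniq.Main
import Cfsg.Agent.Lib.J1Uniq.CollapseA
import Cfsg.Agent.Lib.J1Uniq.CollapseB
import Cfsg.Agent.Lib.J1Uniq.CollapseC
import Cfsg.Agent.Lib.J1Order.Values

/-!
The letters generate, and the action on the 1463 cosets of the centraliser is the tabulated one.
-/

set_option autoImplicit false

namespace Cfsg.Agent.Lib.J1Uniq

open Cfsg.Agent.Lib.J1Order Cfsg.Agent.Lib.J1Order.Structure Cfsg.Agent.Lib.CosetEnum

universe u

variable {G : Type u} [Group G] {t : G} (e : ↥(Subgroup.centralizer ({t} : Set G)) ≃* Model) {w : G}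

/-- The values of the letters. -/
def gens (w : G) : Set G := {x | ∃ g < 7, letter e w g = x}

/-- Words for the elements of the alternating group. -/
def altWords : List (List ℕ) :=
    [[], [1], [3], [2], [4], [1, 3], [1, 4], [3, 1], [3, 3], [3, 2], [2, 3], [2, 4], [4, 1], [4, 
    2], [4, 4], [1, 3, 1], [1, 3, 3], [1, 3, 2], [1, 4, 1], [1, 4, 2], [1, 4, 4], [3, 1, 3], [3, 1, 
    4], [3, 3, 1], [3, 3, 2], [3, 2, 4], [2, 3, 1], [2, 3, 3], [2, 3, 2], [2, 4, 1], [2, 4, 2], [4, 
    1, 3], [4, 2, 3], [4, 4, 1], [1, 3, 1, 3], [1, 3, 1, 4], [1, 3, 2, 4], [1, 4, 1, 3], [1, 4, 2, 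
    3], [1, 4, 4, 1], [3, 1, 3, 1], [3, 1, 3, 2], [3, 1, 4, 1], [3, 1, 4, 2], [3, 2, 4, 1], [2, 3, 
    1, 3], [2, 3, 1, 4], [2, 4, 1, 3], [2, 4, 2, 3], [4, 1, 3, 2], [4, 2, 3, 1], [1, 3, 1, 3, 1], 
    [1, 3, 1, 3, 2], [1, 3, 2, 4, 1], [1, 4, 2, 3, 1], [3, 1, 3, 1, 3], [3, 1, 4, 2, 3], [3, 2, 4, 
    1, 3], [2, 3, 1, 3, 1], [1, 3, 2, 4, 1, 3]]

theorem altWords_spec : ∀ b : alternatingGroup (Fin 5),
    ∃ l ∈ altWords, (l.map letterModel).prod = (1, b) := by
  decide +kernel

theorem involution_cases : ∀ d : Model, d * d = 1 → d ≠ 1 → ∃ a : alternatingGroup (Fin 5),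
    d = zed ∨ d = (1, a * s0 * a⁻¹) ∨ d = zed * (1, a * s1 * a⁻¹) := by
  decide +kernel

theorem card_model_involutions : Fintype.card {d : Model // d * d = 1 ∧ d ≠ 1} = 31 := by
  decide +kernel

theorem four_sq : ∀ d : Model, (d.2 = 1 ∨ d.2 = s0 ∨ d.2 = s1 ∨ d.2 = s0 * s1) → d * d = 1 := by
  decide +kernel

theorem altWords_lt : ∀ l ∈ altWords, ∀ i ∈ l, i < 5 := by decide +kernel

theorem letter_inv (ht : orderOf t = 2) : ∀ g < 7, ∃ g' < 7, letter e w g' = (letter e w g)⁻¹ := by
  intro g hg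
  refine ⟨[0, 2, 1, 4, 3, 6, 5].getD g 0, ?_, ?_⟩
  · interval_cases g <;> decide
  · interval_cases g <;> simp [letter, t_inv ht]

theorem iota_mem_gens (ht : orderOf t = 2) (d : Model) : iota e d ∈ Subgroup.closure (gens e w) := by
  have key : ∀ d : Model, d = (1, d.2) ∨ d = zed * (1, d.2) := by decide +kernel
  have ht' : t ∈ Subgroup.closure (gens e w) := Subgroup.subset_closure ⟨0, by norm_num, rfl⟩
  obtain ⟨l, hl, hb⟩ := altWords_spec d.2
  have hψ : iota e (1, d.2) ∈ Subgroup.closure (gens e w) := by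
    rw [← hb, ← prod_letter e (w := w) ht l (altWords_lt l hl)]
    refine Subgroup.list_prod_mem _ fun x hx => ?_
    obtain ⟨i, hi, rfl⟩ := List.mem_map.1 hx
    exact Subgroup.subset_closure ⟨i, by have := altWords_lt l hl i hi; omega, rfl⟩
  rcases key d with h | h <;> rw [h]
  · exact hψ
  · rw [map_mul, iota_zed e ht]
    exact mul_mem ht' hψ

theorem centralizer_le (ht : orderOf t = 2) :
    Subgroup.centralizer ({t} : Set G) ≤ Subgroup.closure (gens e w) := fun x hx => by
  have := iota_mem_gens e (w := w) ht (e ⟨x, hx⟩)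
  rwa [show iota e (e ⟨x, hx⟩) = x from congrArg Subtype.val (e.symm_apply_apply ⟨x, hx⟩)] at this

theorem orderOf_seven (hw : IsSeven e w) : orderOf w = 7 := by
  haveI : Fact (Nat.Prime 7) := ⟨by norm_num⟩
  exact orderOf_eq_prime hw.pow hw.ne_one

variable (ht : orderOf t = 2)
include ht

theorem collapse_false (hw : IsSeven e w) (d : Data) (D M : ℕ) (T V E : PTree) (hK : d.K = 7)
    (hV : Valid d (letter e w) (Subgroup.centralizer ({t} : Set G)))
    (hgood : ∀ i < M, Good d D (letter e w) (Subgroup.centralizer ({t} : Set G)) i)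
    (hE : edgesOK d M 1 T V E = true) (hV0 : get32 V 0 = 0) : False := by
  obtain ⟨i, hi, hmem⟩ := rep_covers hV hE hgood Nat.one_pos hV0
    (fun g hg => hK ▸ letter_inv e ht g (hK ▸ hg)) w
    (Subgroup.subset_closure ⟨5, hK ▸ (by norm_num : 5 < 7), rfl⟩)
  obtain rfl : i = 0 := by omega
  rw [hV0, rep_zero, inv_one, mul_one] at hmem
  have h := Subgroup.orderOf_dvd_natCard _ hmem
  rw [orderOf_seven e hw, card_centralizer e] at h
  norm_num at h

/-- A conjugate relation of one of the four possible kinds forces the first one. -/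
theorem relation_main (hw : IsSeven e w)
    (h : Commute (conjEl e w 1 g5) (psi e g3) ∨ Commute (conjEl e w 1 (g5 * g3)) (psi e g3) ∨
      Commute (conjEl e w 3 (g5⁻¹ * g3⁻¹)) (psi e g3) ∨
      Commute (conjEl e w 3 (g3⁻¹ * g5 * g5)) (psi e g3)) :
    Commute (conjEl e w 1 g5) (psi e g3) := by
  rcases h with h | h | h | h
  · exact h
  · have hV := valid e ht hw 1 [3, 1] _ good2 h CollapseA.data rfl rfl rfl
      (by decide +kernel) CollapseA.words_ok
    exact (collapse_false e ht hw _ _ _ _ _ _ rfl hV (CollapseA.good _ _ hV) CollapseA.edges_ok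
      CollapseA.vert_zero).elim
  · have hV := valid e ht hw 3 [4, 2] _ good3 h CollapseB.data rfl rfl rfl
      (by decide +kernel) CollapseB.words_ok
    exact (collapse_false e ht hw _ _ _ _ _ _ rfl hV (CollapseB.good _ _ hV) CollapseB.edges_ok
      CollapseB.vert_zero).elim
  · have hV := valid e ht hw 3 [2, 3, 3] _ good4 h CollapseC.data rfl rfl rfl
      (by decide +kernel) CollapseC.words_ok
    exact (collapse_false e ht hw _ _ _ _ _ _ rfl hV (CollapseC.good _ _ hV) CollapseC.edges_ok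
      CollapseC.vert_zero).elim

variable [Finite G] [IsSimpleGroup G] (hP : ∃ P : Sylow 2 G, t ∈ P ∧ ∀ x ∈ P, x * t = t * x)
include hP
include e

theorem card_group : Nat.card G = 175560 := by
  haveI : Fintype (Cfsg.IrrCharacter G) := Fintype.ofFinite _
  exact Values.card_eq e ht hP

theorem index_centralizer : (Subgroup.centralizer ({t} : Set G)).index = 1463 := by
  have h := (Subgroup.centralizer ({t} : Set G)).card_mul_index
  rw [card_centralizer e, card_group e ht hP] at h
  omega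

theorem closure_gens (hw : IsSeven e w) : Subgroup.closure (gens e w) = ⊤ := by
  classical
  haveI : Fact (Nat.Prime 2) := ⟨Nat.prime_two⟩
  let C := Subgroup.centralizer ({t} : Set G)
  have hC : C = Subgroup.centralizer ({t} : Set G) := rfl
  let K := Subgroup.closure (gens e w)
  have hCK : C ≤ K := centralizer_le e ht
  have hι : ∀ d, iota e d ∈ K := iota_mem_gens e ht
  have hwK : w ∈ K := Subgroup.subset_closure ⟨5, by norm_num, rfl⟩
  -- involutions of the centraliser are conjugate to the central one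
  have hconj : ∀ d : Model, d * d = 1 → d ≠ 1 → ∃ l ∈ K, l * t * l⁻¹ = iota e d := by
    have h0 : ∃ l ∈ K, l * t * l⁻¹ = psi e s0 := ⟨w, hwK, hw.conj_t⟩
    have h2 : ∀ x y k : G, k ∈ K → (∃ l ∈ K, l * t * l⁻¹ = x) → k * x * k⁻¹ = y →
        ∃ l ∈ K, l * t * l⁻¹ = y := by
      rintro _ _ k hk ⟨l, hl, rfl⟩ rfl
      exact ⟨k * l, mul_mem hk hl, by group⟩
    have h3 : ∃ l ∈ K, l * t * l⁻¹ = t * psi e s1 := by
      obtain ⟨a, ha⟩ : ∃ a, a * s0 * a⁻¹ = s1 := by decide +kernel
      refine h2 (psi e s1) _ w hwK (h2 _ _ _ (hι (1, a)) h0 ?_) hw.conj_s1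
      rw [iota_psi, conj_psi, ha]
    intro d h1 h1'
    obtain ⟨a, rfl | rfl | rfl⟩ := involution_cases d h1 h1'
    · exact ⟨1, one_mem _, by simp [iota_zed e ht]⟩
    · exact h2 _ _ _ (hι (1, a)) h0 (by simp only [iota_psi, map_mul, map_inv])
    · exact h2 _ _ _ (hι (1, a)) h3 (by rw [map_mul, iota_zed e ht, iota_psi, iota_psi, conj_t_psi])
  set j := C.relIndex K with hj
  have hmul : j * K.index = 1463 := by
    rw [hj, Subgroup.relIndex_mul_index hCK, hC, index_centralizer e ht hP]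
  have hcard : Nat.card K = 120 * j := by
    rw [hj, Subgroup.relIndex, ← Subgroup.card_mul_index (C.subgroupOf K),
      Nat.card_congr (Subgroup.subgroupOfEquivOfLe hCK).toEquiv, hC, card_centralizer e]
  have h7 : 7 ∣ j := by
    have := Subgroup.orderOf_dvd_natCard _ hwK
    rw [orderOf_seven e hw, hcard] at this
    exact (Nat.Coprime.dvd_mul_left (by norm_num)).1 this
  have h31 : 31 ≤ j := by
    choose l hl hlt using fun d : {d : Model // d * d = 1 ∧ d ≠ 1} => hconj d.1 d.2.1 d.2.2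
    have hn : Nat.card {d : Model // d * d = 1 ∧ d ≠ 1} = 31 := by
      rw [Nat.card_eq_fintype_card]; convert card_model_involutions
    rw [← hn, hj, Subgroup.relIndex, Subgroup.index]
    refine Nat.card_le_card_of_injective (fun d => QuotientGroup.mk (⟨l d, hl d⟩ : K)) ?_
    intro d d' h
    have hmem : (l d)⁻¹ * l d' ∈ C := Subgroup.mem_subgroupOf.1 (QuotientGroup.eq.1 h)
    have hc := Subgroup.mem_centralizer_singleton_iff.1 hmem
    apply Subtype.ext
    apply iota_injective e
    rw [← hlt d, ← hlt d']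
    calc l d * t * (l d)⁻¹ = l d * (t * ((l d)⁻¹ * l d')) * (l d')⁻¹ := by group
      _ = l d * ((l d)⁻¹ * l d' * t) * (l d')⁻¹ := by rw [hc]
      _ = l d' * t * (l d')⁻¹ := by group
  by_contra hne
  have hi : K.index = 19 ∨ K.index = 11 := by
    have hd : ∀ x ∈ Nat.divisors 1463, 31 ≤ x → 7 ∣ x → x = 77 ∨ x = 133 ∨ x = 1463 := by
      decide +kernel
    have h1 : K.index ≠ 1 := fun h => hne (Subgroup.index_eq_one.1 h)
    rcases hd j (Nat.mem_divisors.2 ⟨Dvd.intro _ hmul, by norm_num⟩) h31 h7 with h | h | h <;>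
      rw [h] at hmul <;> omega
  -- the Sylow subgroup acts semiregularly away from the base point
  obtain ⟨S, hS⟩ := exists_sylow e ht hP
  have hsylC : syl e ≤ C := fun x hx => by
    obtain ⟨⟨y, hy⟩, -, rfl⟩ := hx
    exact hy
  have hSK : (S : Subgroup G) ≤ K := hS ▸ hsylC.trans hCK
  have hsq : ∀ x ∈ syl e, x ≠ 1 → ∃ l ∈ K, l * t * l⁻¹ = x := by
    intro x hx hx1
    obtain ⟨_, ⟨d, ⟨-, hd⟩, rfl⟩, rfl⟩ := hx
    exact hconj d (four_sq d hd) fun h => hx1 (by rw [h]; simp)
  have hinvK : ∀ u ∈ K, u * u = 1 → u ≠ 1 → ∃ l ∈ K, l * t * l⁻¹ = u := by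
    intro u hu hu2 hu1
    have ho : orderOf (⟨u, hu⟩ : K) = 2 :=
      orderOf_eq_prime (Subtype.ext (by simpa [pow_two] using hu2)) fun h => hu1 (congrArg Subtype.val h)
    have hp : IsPGroup 2 (Subgroup.zpowers (⟨u, hu⟩ : K)) :=
      IsPGroup.of_card (n := 1) (by rw [Nat.card_zpowers, ho, pow_one])
    obtain ⟨Q, hQ⟩ := hp.exists_le_sylow
    obtain ⟨k, hk⟩ := MulAction.exists_smul_eq K Q (S.subtype hSK)
    have hmem : k * ⟨u, hu⟩ * k⁻¹ ∈ (S.subtype hSK : Subgroup K) := by
      rw [← hk, Sylow.coe_subgroup_smul]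
      exact ⟨_, hQ (Subgroup.mem_zpowers _), rfl⟩
    rw [Sylow.coe_subtype, Subgroup.mem_subgroupOf, hS] at hmem
    obtain ⟨l, hl, hlu⟩ := hsq _ hmem fun h => hu1 (by
      simpa using (conj_eq_one_iff.1 (show (k : G) * u * (k : G)⁻¹ = 1 from h)))
    refine ⟨(k : G)⁻¹ * l, mul_mem (inv_mem k.2) hl, ?_⟩
    rw [show (k : G)⁻¹ * l * t * ((k : G)⁻¹ * l)⁻¹ = (k : G)⁻¹ * (l * t * l⁻¹) * k by group, hlu]
    show (k : G)⁻¹ * ((k : G) * u * (k : G)⁻¹) * k = u
    group
  have hfix : ∀ s : ↥(syl e), s ≠ 1 →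
      MulAction.fixedBy (G ⧸ K) s = {((1 : G) : G ⧸ K)} := by
    intro s hs
    ext q
    induction q using QuotientGroup.induction_on with
    | H g =>
      simp only [MulAction.mem_fixedBy, Set.mem_singleton_iff, QuotientGroup.eq]
      rw [show s • ((g : G) : G ⧸ K) = (((s : G) * g : G) : G ⧸ K) from rfl, QuotientGroup.eq, mul_one,
        inv_mem_iff]
      constructor
      · intro h
        have hu : g⁻¹ * (s : G) * g ∈ K := by
          have := inv_mem h
          convert this using 1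
          group
        obtain ⟨l, hl, hlt⟩ := hsq _ s.2 fun h => hs (Subtype.ext h)
        obtain ⟨l', hl', hlt'⟩ := hinvK _ hu
          (by
            rw [show g⁻¹ * (s : G) * g * (g⁻¹ * (s : G) * g) = g⁻¹ * ((s : G) * s) * g by group,
              ← hlt, show l * t * l⁻¹ * (l * t * l⁻¹) = l * (t * t) * l⁻¹ by group, t_mul_self ht]
            group)
          (fun h => hs (Subtype.ext (by
            have := congrArg (fun z => g * z * g⁻¹) h
            simpa [mul_assoc] using this)))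
        have hmem : l⁻¹ * g * l' ∈ C := Subgroup.mem_centralizer_singleton_iff.2 (by
          calc l⁻¹ * g * l' * t = l⁻¹ * g * (l' * t * l'⁻¹) * l' := by group
            _ = l⁻¹ * (s : G) * g * l' := by rw [hlt']; group
            _ = t * (l⁻¹ * g * l') := by rw [← hlt]; group)
        have := mul_mem (mul_mem hl (hCK hmem)) (inv_mem hl')
        convert this using 1
        group
      · intro hg
        exact mul_mem (inv_mem (mul_mem (hCK (hsylC s.2)) hg)) hg
  letI : Fintype (G ⧸ K) := Fintype.ofFinite _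
  letI : Fintype ↥(syl e) := Fintype.ofFinite _
  letI : Fintype (Quotient (MulAction.orbitRel ↥(syl e) (G ⧸ K))) := Fintype.ofFinite _
  have hB := MulAction.sum_card_fixedBy_eq_card_orbits_mul_card_group ↥(syl e) (G ⧸ K)
  rw [← Finset.add_sum_erase _ _ (Finset.mem_univ (1 : ↥(syl e))), Finset.sum_eq_card_nsmul (b := 1)
    fun s hs => by
      rw [← Nat.card_eq_fintype_card, hfix s (Finset.ne_of_mem_erase hs), Nat.card_coe_set_eq,
        Set.ncard_singleton],
    Finset.card_erase_of_mem (Finset.mem_univ _), Finset.card_univ, smul_eq_mul, mul_one,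
    ← Nat.card_eq_fintype_card, ← Nat.card_eq_fintype_card (α := ↥(syl e)), card_syl e,
    MulAction.fixedBy_one_eq_univ, Nat.card_congr (Equiv.Set.univ _)] at hB
  rw [← Subgroup.index] at hB
  omega

theorem hV_main (hw : IsSeven e w) (hcomm : Commute (conjEl e w 1 g5) (psi e g3)) :
    Valid Main.data (letter e w) (Subgroup.centralizer ({t} : Set G)) :=
  valid e ht hw 1 [3] _ good1 hcomm Main.data rfl rfl rfl (by decide +kernel) Main.words_ok

/-- The permutations of the cosets induced by the letters. -/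
def tablePerms : Set (Equiv.Perm (Fin 1463)) :=
  {σ | ∃ g < 7, ∀ i, (σ⁻¹ i).1 = get32 Main.table (i.1 * 7 + g)}

theorem exists_hom (hw : IsSeven e w) (hcomm : Commute (conjEl e w 1 g5) (psi e g3)) :
    ∃ ρ : G →* Equiv.Perm (Fin 1463), Function.Injective ρ ∧
      ρ.range = Subgroup.closure tablePerms := by
  classical
  let C := Subgroup.centralizer ({t} : Set G)
  have hC : C = Subgroup.centralizer ({t} : Set G) := rfl
  have hV := hV_main e ht hP hw hcomm
  have hgood := Main.good _ _ hV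
  let r : Fin 1463 → G := fun i => rep Main.data 1750 (letter e w) (get32 Main.vert i.1)
  have hcov : ∀ x, ∃ i, x * (r i)⁻¹ ∈ C := by
    intro x
    obtain ⟨i, hi, h⟩ := rep_covers hV Main.edges_ok hgood (by norm_num : 0 < 1463) Main.vert_zero
      (fun g hg => letter_inv e ht g hg) x (by
        show x ∈ Subgroup.closure (gens e w)
        rw [closure_gens e ht hP hw]
        trivial)
    exact ⟨⟨i, hi⟩, h⟩
  have hsurj : Function.Surjective fun i => (((r i)⁻¹ : G) : G ⧸ C) := by
    intro q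
    induction q using QuotientGroup.induction_on with
    | H z =>
      obtain ⟨i, hi⟩ := hcov z⁻¹
      refine ⟨i, ?_⟩
      rw [QuotientGroup.eq, inv_inv]
      simpa [mul_inv_rev] using C.inv_mem hi
  have hbij := (Nat.bijective_iff_surjective_and_card _).2 ⟨hsurj, by
    rw [Nat.card_fin, ← Subgroup.index, hC, index_centralizer e ht hP]⟩
  let E : Fin 1463 ≃ G ⧸ C := Equiv.ofBijective _ hbij
  let ρ : G →* Equiv.Perm (Fin 1463) :=
    E.symm.permCongrHom.toMonoidHom.comp (MulAction.toPermHom G (G ⧸ C))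
  have hρ : ∀ x i, ρ x i = E.symm (x • E i) := fun _ _ => rfl
  have hedge : ∀ g < 7, ∀ i : Fin 1463,
      ((ρ (letter e w g))⁻¹ i).1 = get32 Main.table (i.1 * 7 + g) := by
    intro g hg i
    have h := allBelow_iff.1 Main.edges_ok i.1 i.2
    simp only [edgeAt, force_eq] at h
    have h' := allBelow_iff.1 h g hg
    simp only [force_eq, Bool.and_eq_true, Nat.blt_eq] at h'
    obtain ⟨⟨hid, hlt⟩, h''⟩ := h'
    set j : Fin 1463 := ⟨_, hlt⟩ with hj
    have hmem : r i * letter e w g * (r j)⁻¹ ∈ C := by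
      obtain ⟨hgK, hf⟩ := hgood _ hid
      cases hr : Nat.beq (Nat.mod (get32 Main.edge (Nat.add (Nat.mul i.1 Main.data.K) g)) 2) 0
      all_goals (rw [hr] at h''; simp only [Bool.and_eq_true, Nat.beq_eq] at h'';
                 obtain ⟨⟨hu, hgg⟩, hv⟩ := h'')
      · have hφ := (hV.inv _ hgK).2
        rw [hgg] at hφ
        rw [hv, hu] at hf
        rw [hφ]
        have := C.inv_mem hf
        convert this using 1
        simp only [r, hj, mul_inv_rev, inv_inv, mul_assoc]
      · rw [hu, hgg, hv] at hf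
        exact hf
    rw [← map_inv]
    suffices hh : ρ (letter e w g)⁻¹ i = j from (congrArg Fin.val hh).trans rfl
    rw [hρ, Equiv.symm_apply_eq]
    show (((letter e w g)⁻¹ * (r i)⁻¹ : G) : G ⧸ C) = (((r j)⁻¹ : G) : G ⧸ C)
    rw [QuotientGroup.eq]
    convert hmem using 1
    group
  refine ⟨ρ, ?_, ?_⟩
  · rw [← MonoidHom.ker_eq_bot_iff]
    rcases IsSimpleGroup.eq_bot_or_eq_top_of_normal ρ.ker inferInstance with h | h
    · exact h
    · exfalso
      have hw' : w ∈ C := by
        have h1 : ρ w = 1 := MonoidHom.mem_ker.1 (h ▸ Subgroup.mem_top w)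
        have h2 : ∀ q : G ⧸ C, w • q = q := fun q => by
          have := Equiv.ext_iff.1 h1 (E.symm q)
          rw [hρ, Equiv.apply_symm_apply, Equiv.Perm.one_apply] at this
          exact E.symm.injective this
        have := h2 ((1 : G) : G ⧸ C)
        rw [show w • ((1 : G) : G ⧸ C) = ((w * 1 : G) : G ⧸ C) from rfl, QuotientGroup.eq] at this
        simpa using this
      have hd := Subgroup.orderOf_dvd_natCard _ hw'
      rw [orderOf_seven e hw, hC, card_centralizer e] at hd
      norm_num at hd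
  · rw [MonoidHom.range_eq_map, ← closure_gens e ht hP hw, MonoidHom.map_closure]
    congr 1
    ext σ
    constructor
    · rintro ⟨_, ⟨g, hg, rfl⟩, rfl⟩
      exact ⟨g, hg, hedge g hg⟩
    · rintro ⟨g, hg, hσ⟩
      refine ⟨_, ⟨g, hg, rfl⟩, ?_⟩
      apply inv_injective
      exact Equiv.ext fun i => Fin.ext ((hedge g hg i).trans (hσ i).symm)

end Cfsg.Agent.Lib.J1Uniq
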