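import Cfsg.Agent.Lib.J1Uniq.Letters
import Cfsg.Agent.Lib.J1Order.Structure

/-!
The letters interpreted in a group with an involution centraliser `2 × A₅`.
-/

set_option autoImplicit false

namespace Cfsg.Agent.Lib.J1Uniq

open Cfsg.Agent.Lib.J1Order Cfsg.Agent.Lib.J1Order.Structure Cfsg.Agent.Lib.CosetEnum

universe u

variable {G : Type u} [Group G] {t : G} (e : ↥(Subgroup.centralizer ({t} : Set G)) ≃* Model)

/-- The embedding of the model of the centraliser. -/
def iota : Model →* G := (Subgroup.centralizer ({t} : Set G)).subtype.comp e.symm.toMonoidHom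

theorem iota_injective : Function.Injective (iota e) :=
  fun _ _ h => e.symm.injective (Subtype.ext h)

theorem iota_mem (d : Model) : iota e d ∈ Subgroup.centralizer ({t} : Set G) := (e.symm d).2

theorem iota_psi (b : alternatingGroup (Fin 5)) : iota e (1, b) = psi e b := rfl

theorem iota_zed (ht : orderOf t = 2) : iota e zed = t := by
  rw [← e_t e ht]
  exact congrArg Subtype.val (e.symm_apply_apply _)

/-- An element of order 7 normalising the Sylow subgroup in the standard way. -/
structure IsSeven (w : G) : Prop where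
  pow : w ^ 7 = 1
  ne_one : w ≠ 1
  conj_t : w * t * w⁻¹ = psi e s0
  conj_s0 : w * psi e s0 * w⁻¹ = psi e (s0 * s1)
  conj_s1 : w * psi e s1 * w⁻¹ = t * psi e s1
  conj_g : psi e g3 * w * (psi e g3)⁻¹ = w ^ 2

/-- The value of a letter. -/
def letter (w : G) (n : ℕ) : G :=
  [t, psi e g3, (psi e g3)⁻¹, psi e g5, (psi e g5)⁻¹, w, w⁻¹].getD n 1

/-- The value of a letter of the centraliser in the model. -/
def letterModel (n : ℕ) : Model :=
  [zed, (1, g3), (1, g3)⁻¹, (1, g5), (1, g5)⁻¹].getD n 1

/-- The element `x c x⁻¹`, `x = a⁻¹ w ^ k`. -/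
def conjEl (w : G) (k : ℕ) (c : alternatingGroup (Fin 5)) : G :=
  (psi e (g5 * g5))⁻¹ * w ^ k * psi e c * ((psi e (g5 * g5))⁻¹ * w ^ k)⁻¹

variable (ht : orderOf t = 2) {w : G}

include ht in
theorem prod_letter (l : List ℕ) (hl : ∀ i ∈ l, i < 5) :
    (l.map (letter e w)).prod = iota e (l.map letterModel).prod := by
  rw [map_list_prod, List.map_map]
  congr 1
  refine List.map_congr_left fun i hi => ?_
  have := hl i hi
  have h0 : ∀ b, (iota e ((1 : Multiplicative (ZMod 2)), b)⁻¹) = (psi e b)⁻¹ := fun b => by
    rw [map_inv, iota_psi]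
  interval_cases i <;>
    simp only [letter, letterModel, Function.comp_apply, List.getD_cons_zero, List.getD_cons_succ,
      iota_zed e ht, iota_psi, h0]

theorem cent_lt : ∀ l ∈ centWords, ∀ i ∈ l, i < 5 := by decide +kernel

theorem cent_model : ∀ l ∈ centWords, (l.map letterModel).prod = 1 := by decide +kernel

include ht in
theorem cent_one (l : List ℕ) (hl : l ∈ centWords) : (l.map (letter e w)).prod = 1 := by
  rw [prod_letter e ht l (cent_lt l hl), cent_model l hl, map_one]

include ht in
theorem conj_word (a b : List ℕ) (ha : ∀ i ∈ a, i < 5) (hb : ∀ i ∈ b, i < 5) (X Y : Model)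
    (hX : (a.map letterModel).prod = X) (hY : (b.map letterModel).prod = Y)
    (h : w * iota e X * w⁻¹ * iota e Y = 1) :
    (([5] ++ a ++ [6] ++ b).map (letter e w)).prod = 1 := by
  rw [List.map_append, List.map_append, List.map_append, List.prod_append, List.prod_append,
    List.prod_append, prod_letter e ht a ha, prod_letter e ht b hb, hX, hY]
  simpa [letter] using h

include ht in
theorem norm_one (hw : IsSeven e w) (l : List ℕ) (hl : l ∈ normWords) :
    (l.map (letter e w)).prod = 1 := by
  have hp : ∀ b, b * b = 1 → psi e b * psi e b = 1 := fun b hb => by rw [← map_mul, hb, map_one]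
  simp only [normWords, List.mem_cons, List.not_mem_nil, or_false] at hl
  rcases hl with rfl | rfl | rfl | rfl | rfl
  · rw [List.map_replicate, List.prod_replicate]; exact hw.pow
  · refine conj_word e ht _ _ (by decide) (by decide) zed (1, s0) (by decide +kernel)
      (by decide +kernel) ?_
    rw [iota_zed e ht, iota_psi, hw.conj_t, hp _ (by decide +kernel)]
  · refine conj_word e ht _ _ (by decide) (by decide) (1, s0) (1, s0 * s1) (by decide +kernel)
      (by decide +kernel) ?_
    rw [iota_psi, iota_psi, hw.conj_s0, hp _ (by decide +kernel)]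
  · refine conj_word e ht _ _ (by decide) (by decide) (1, s1) (zed * (1, s1)) (by decide +kernel)
      (by decide +kernel) ?_
    rw [map_mul, iota_zed e ht, iota_psi, hw.conj_s1,
      show t * psi e s1 * (t * psi e s1) = t * (psi e s1 * t) * psi e s1 by group, psi_comm,
      ← mul_assoc t t, t_mul_self ht, one_mul, hp _ (by decide +kernel)]
  · simp only [List.map_cons, List.map_nil, List.prod_cons, List.prod_nil, letter,
      List.getD_cons_zero, List.getD_cons_succ, mul_one]
    rw [show psi e g3 * (w * ((psi e g3)⁻¹ * (w⁻¹ * w⁻¹))) =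
      psi e g3 * w * (psi e g3)⁻¹ * (w * w)⁻¹ by group, hw.conj_g, pow_two, mul_inv_cancel]

include ht in
theorem conjWord_prod (k : ℕ) (wc : List ℕ) (hlt : ∀ i ∈ wc, i < 5) (c : alternatingGroup (Fin 5))
    (hc : (wc.map letterModel).prod = (1, c)) :
    ((conjWord k wc).map (letter e w)).prod = conjEl e w k c := by
  rw [conjWord, List.map_append, List.map_append, List.map_append, List.map_append, List.prod_append,
    List.prod_append, List.prod_append, List.prod_append, prod_letter e ht wc hlt, hc, iota_psi]
  simp only [List.map_replicate, List.prod_replicate, List.map_cons, List.map_nil, List.prod_cons,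
    List.prod_nil, letter, List.getD_cons_zero, List.getD_cons_succ, mul_one, conjEl, map_mul,
    mul_inv_rev, inv_inv, inv_pow, mul_assoc]

/-- The requirements on the word of the element `c`. -/
def GoodWord (k : ℕ) (wc : List ℕ) (c : alternatingGroup (Fin 5)) : Prop :=
  (∀ i ∈ wc, i < 5) ∧ (∀ i ∈ invWord wc, i < 5) ∧ (wc.map letterModel).prod = (1, c) ∧
    ((invWord wc).map letterModel).prod = (1, c⁻¹) ∧ ∀ l ∈ allWords k wc, ∀ i ∈ l, i < 7

theorem good1 : GoodWord 1 [3] g5 := by
  refine ⟨?_, ?_, ?_, ?_, ?_⟩ <;> decide +kernel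

theorem good2 : GoodWord 1 [3, 1] (g5 * g3) := by
  refine ⟨?_, ?_, ?_, ?_, ?_⟩ <;> decide +kernel

theorem good3 : GoodWord 3 [4, 2] (g5⁻¹ * g3⁻¹) := by
  refine ⟨?_, ?_, ?_, ?_, ?_⟩ <;> decide +kernel

theorem good4 : GoodWord 3 [2, 3, 3] (g3⁻¹ * g5 * g5) := by
  refine ⟨?_, ?_, ?_, ?_, ?_⟩ <;> decide +kernel

include ht in
theorem extra_one (k : ℕ) (wc : List ℕ) (c : alternatingGroup (Fin 5)) (hwc : GoodWord k wc c)
    (hcomm : Commute (conjEl e w k c) (psi e g3)) :
    ((extraWord k wc).map (letter e w)).prod = 1 := by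
  obtain ⟨h1, h2, h3, h4, -⟩ := hwc
  have hinv : conjEl e w k c⁻¹ = (conjEl e w k c)⁻¹ := by
    simp [conjEl, map_inv, mul_assoc]
  rw [extraWord, List.map_append, List.map_append, List.map_append, List.prod_append,
    List.prod_append, List.prod_append, conjWord_prod e ht k wc h1 c h3,
    conjWord_prod e ht k _ h2 _ h4, hinv]
  simp only [List.map_cons, List.map_nil, List.prod_cons, List.prod_nil, letter,
    List.getD_cons_zero, List.getD_cons_succ, mul_one]
  rw [hcomm.eq]
  group

include ht in
theorem valid (hw : IsSeven e w) (k : ℕ) (wc : List ℕ) (c : alternatingGroup (Fin 5))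
    (hwc : GoodWord k wc c) (hcomm : Commute (conjEl e w k c) (psi e g3)) (d : Data) (hK : d.K = 7)
    (hR : d.nR = 23) (hW : d.nW = 26)
    (hIV : ∀ g, g ≤ 7 → invL d.IV g = [0, 2, 1, 4, 3, 6, 5, 7].getD g 0)
    (hwords : ∀ i < 26, getWord d.W i = pack ((allWords k wc).getD i [])) :
    Valid d (letter e w) (Subgroup.centralizer ({t} : Set G)) := by
  have hlen : (allWords k wc).length = 26 := rfl
  have hev : ∀ i < 26, ev (letter e w) (getWord d.W i) =
      (((allWords k wc).getD i []).map (letter e w)).prod := by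
    intro i hi
    rw [hwords i hi, ev_pack]
    intro g hg
    have := hwc.2.2.2.2 _ (List.getD_eq_getElem (allWords k wc) [] (hlen.symm ▸ hi) ▸
      List.getElem_mem _) g hg
    omega
  have hrel : ∀ i < 23, (((allWords k wc).getD i []).map (letter e w)).prod = 1 := by
    intro i hi
    rw [allWords, List.getD_append _ _ _ _ hi]
    rw [List.getD_eq_getElem _ [] hi]
    generalize hl : ([[]] ++ centWords ++ normWords ++ [extraWord k wc] ++
      [[0, 0], [1, 2], [2, 1], [3, 4], [4, 3], [5, 6], [6, 5]] : List (List ℕ))[i] = l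
    have hm : l ∈ [[]] ++ centWords ++ normWords ++ [extraWord k wc] ++
        [[0, 0], [1, 2], [2, 1], [3, 4], [4, 3], [5, 6], [6, 5]] := hl ▸ List.getElem_mem _
    simp only [List.mem_append, List.mem_cons, List.not_mem_nil, or_false] at hm
    rcases hm with (((rfl | hm) | hm) | rfl) | rfl | rfl | rfl | rfl | rfl | rfl | rfl
    · simp
    · exact cent_one e ht l hm
    · exact norm_one e ht hw l hm
    · exact extra_one e ht k wc c hwc hcomm
    all_goals simp [letter, t_mul_self ht]
  refine ⟨by omega, by rw [hK]; rfl, fun g hg => ?_, fun i hi => ?_, fun i hi => ?_⟩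
  · rw [hK] at hg ⊢
    rw [hIV g hg]
    interval_cases g <;> simp [letter, t_inv ht]
  · rw [hR] at hi
    rw [hev i (by omega), hrel i hi]
  · rw [hW] at hi
    rw [hev i hi]
    by_cases h : i < 23
    · rw [hrel i h]; exact one_mem _
    · interval_cases i <;> first | omega | simp [allWords, centWords, normWords, letter,
        List.getD_eq_getElem?_getD, t_mem, psi_mem]

end Cfsg.Agent.Lib.J1Uniq
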