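import Cfsg.Agent.Lib.CosetEnum.Index

/-!
Relator words over the letters `t, g, g⁻¹, h, h⁻¹, w, w⁻¹` (numbered from 0): the centraliser
`⟨t⟩ × ⟨g, h⟩`, the normaliser of a four-group and a last relation.
-/

set_option autoImplicit false

namespace Cfsg.Agent.Lib.J1Uniq

/-- The inverse of a word. -/
def invWord (l : List ℕ) : List ℕ :=
  l.reverse.map fun i => [0, 2, 1, 4, 3, 6, 5].getD i i

/-- Relators in the letters of the centraliser. -/
def centWords : List (List ℕ) :=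
  [[0, 0], [0, 1, 0, 2], [0, 3, 0, 4], [1, 1, 1], [3, 3, 3, 3, 3],
    [1, 3, 1, 3, 1, 3, 1, 3, 1, 3], [1, 4, 1, 4, 1, 4], [1, 3, 3, 1, 3, 3],
    [1, 3, 2, 4, 1, 3, 2, 4, 1, 3, 2, 4]]

/-- Relators involving `w`. -/
def normWords : List (List ℕ) :=
  [List.replicate 7 5,
    [5] ++ [0] ++ [6] ++ [3, 2, 4, 2],
    [5] ++ [1, 3, 1, 4] ++ [6] ++ [2, 3, 1, 4, 2],
    [5] ++ [3, 1, 4, 1] ++ [6] ++ [2, 3, 2, 4, 0],
    [1, 5, 2, 6, 6]]

/-- The word of `x c x⁻¹` for `x = a⁻¹ w ^ k`. -/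
def conjWord (k : ℕ) (wc : List ℕ) : List ℕ :=
  [4, 4] ++ List.replicate k 5 ++ wc ++ List.replicate k 6 ++ [3, 3]

/-- The last relator. -/
def extraWord (k : ℕ) (wc : List ℕ) : List ℕ :=
  conjWord k wc ++ [1] ++ conjWord k (invWord wc) ++ [2]

/-- All words of a certificate: trivial ones, then generators of the subgroup. -/
def allWords (k : ℕ) (wc : List ℕ) : List (List ℕ) :=
  [[]] ++ centWords ++ normWords ++ [extraWord k wc] ++
    [[0, 0], [1, 2], [2, 1], [3, 4], [4, 3], [5, 6], [6, 5]] ++ [[0], [1], [3]]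

end Cfsg.Agent.Lib.J1Uniq
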