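import Cfsg.Agent.Lib.J1Uniq.Interp

/-!
Linear maps of the elementary group of order 8.
-/

set_option autoImplicit false

namespace Cfsg.Agent.Lib.J1Uniq

open Cfsg.Agent.Lib.J1Order Cfsg.Agent.Lib.J1Order.Structure

universe u

/-- A vector: coordinates along the central involution and the two double transpositions. -/
abbrev Vec := Bool × Bool × Bool

/-- A linear map: the images of the basis. -/
abbrev Lin := Vec × Vec × Vec

/-- The sum of vectors. -/
def vadd (u v : Vec) : Vec := (xor u.1 v.1, xor u.2.1 v.2.1, xor u.2.2 v.2.2)

/-- The element of the model given by a vector. -/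
def mv (v : Vec) : Model :=
  ((if v.1 then Multiplicative.ofAdd 1 else 1),
    (if v.2.1 then s0 else 1) * (if v.2.2 then s1 else 1))

/-- The image of a vector. -/
def app (L : Lin) (v : Vec) : Vec :=
  vadd (if v.1 then L.1 else (false, false, false))
    (vadd (if v.2.1 then L.2.1 else (false, false, false)) (if v.2.2 then L.2.2 else (false, false, false)))

/-- Composition. -/
def lcomp (L M : Lin) : Lin := (app L M.1, app L M.2.1, app L M.2.2)

/-- The identity. -/
def lid : Lin := ((true, false, false), (false, true, false), (false, false, true))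

/-- Powers. -/
def lpow (L : Lin) : ℕ → Lin
  | 0 => lid
  | n + 1 => lcomp L (lpow L n)

/-- The action of the 3-cycle. -/
def gLin : Lin := ((true, false, false), (false, true, true), (false, true, false))

/-- The action of the standard element of order 7. -/
def stdLin : Lin := ((false, true, false), (false, true, true), (true, false, true))

/-- The action of the other element of order 7. -/
def altLin : Lin := ((false, true, false), (false, false, true), (true, true, false))

theorem mv_add : ∀ u v : Vec, mv (vadd u v) = mv u * mv v := by decide +kernel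

theorem mv_injective : ∀ u v : Vec, mv u = mv v → u = v := by decide +kernel

theorem mv_basis : mv (true, false, false) = zed ∧ mv (false, true, false) = (1, s0) ∧
    mv (false, false, true) = (1, s1) ∧ mv (false, false, false) = 1 := by decide +kernel

theorem exists_mv : ∀ d : Model, (d.2 = 1 ∨ d.2 = s0 ∨ d.2 = s1 ∨ d.2 = s0 * s1) → ∃ v, mv v = d := by
  decide +kernel

theorem mv_four : ∀ v : Vec, (mv v).2 = 1 ∨ (mv v).2 = s0 ∨ (mv v).2 = s1 ∨ (mv v).2 = s0 * s1 := by
  decide +kernel

theorem gLin_spec : ∀ v : Vec, (1, g3) * mv v * (1, g3)⁻¹ = mv (app gLin v) := by decide +kernel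

set_option synthInstance.maxSize 2000 in
set_option synthInstance.maxHeartbeats 200000 in
theorem lin_classify : ∀ L : Lin, lpow L 7 = lid → L ≠ lid →
    (∃ n : Fin 7, lcomp gLin (lcomp L (lpow gLin 2)) = lpow L n) →
      ∃ j : Fin 7, lpow L j = stdLin ∨ lpow L j = altLin := by
  decide +kernel

theorem std_power : ∀ n : Fin 7, lcomp gLin (lcomp stdLin (lpow gLin 2)) = lpow stdLin n → n = 2 := by
  decide +kernel

theorem alt_power : ∀ n : Fin 7, lcomp gLin (lcomp altLin (lpow gLin 2)) = lpow altLin n → n = 4 := by
  decide +kernel

variable {G : Type u} [Group G] {t : G} (e : ↥(Subgroup.centralizer ({t} : Set G)) ≃* Model)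

/-- The element of `G` given by a vector. -/
def toG (v : Vec) : G := iota e (mv v)

/-- Conjugation by `x` acts as `L`. -/
def Acts (x : G) (L : Lin) : Prop := ∀ v, x * toG e v * x⁻¹ = toG e (app L v)

theorem toG_add (u v : Vec) : toG e (vadd u v) = toG e u * toG e v := by
  rw [toG, mv_add, map_mul]; rfl

theorem toG_injective : Function.Injective (toG e) := fun u v h =>
  mv_injective u v (iota_injective e h)

theorem toG_zero : toG e (false, false, false) = 1 := by rw [toG, mv_basis.2.2.2, map_one]

theorem acts_of_basis {x : G} {L : Lin}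
    (h1 : x * toG e (true, false, false) * x⁻¹ = toG e L.1)
    (h2 : x * toG e (false, true, false) * x⁻¹ = toG e L.2.1)
    (h3 : x * toG e (false, false, true) * x⁻¹ = toG e L.2.2) : Acts e x L := by
  have hif : ∀ (b : Bool) (u v : Vec), x * toG e u * x⁻¹ = toG e v →
      x * toG e (if b then u else (false, false, false)) * x⁻¹ =
        toG e (if b then v else (false, false, false)) := by
    intro b u v h
    cases b <;> simp [h, toG_zero]
  have hsplit : ∀ v : Vec, v = vadd (if v.1 then (true, false, false) else (false, false, false))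
      (vadd (if v.2.1 then (false, true, false) else (false, false, false))
        (if v.2.2 then (false, false, true) else (false, false, false))) := by decide
  intro v
  conv_lhs => rw [hsplit v, toG_add, toG_add]
  rw [app, toG_add, toG_add, ← hif v.1 _ _ h1, ← hif v.2.1 _ _ h2, ← hif v.2.2 _ _ h3]
  group

theorem acts_one : Acts e 1 lid :=
  acts_of_basis e (by simp [lid]) (by simp [lid]) (by simp [lid])

theorem Acts.mul {x y : G} {L M : Lin} (hx : Acts e x L) (hy : Acts e y M) :
    Acts e (x * y) (lcomp L M) := by
  have h : ∀ v, x * y * toG e v * (x * y)⁻¹ = toG e (app L (app M v)) := fun v => by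
    rw [← hx, ← hy]; group
  have happ : ∀ N : Lin, app N (true, false, false) = N.1 ∧ app N (false, true, false) = N.2.1 ∧
      app N (false, false, true) = N.2.2 := by decide +kernel
  refine acts_of_basis e ?_ ?_ ?_
  · rw [h, (happ M).1]; rfl
  · rw [h, (happ M).2.1]; rfl
  · rw [h, (happ M).2.2]; rfl

theorem Acts.pow {x : G} {L : Lin} (hx : Acts e x L) : ∀ n : ℕ, Acts e (x ^ n) (lpow L n)
  | 0 => by rw [pow_zero]; exact acts_one e
  | n + 1 => by rw [pow_succ']; exact Acts.mul e hx (Acts.pow hx n)

theorem Acts.unique {x : G} {L M : Lin} (hL : Acts e x L) (hM : Acts e x M) : L = M := by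
  have happ : ∀ N : Lin, app N (true, false, false) = N.1 ∧ app N (false, true, false) = N.2.1 ∧
      app N (false, false, true) = N.2.2 := by decide +kernel
  have h := fun v => toG_injective e ((hL v).symm.trans (hM v))
  refine Prod.ext ?_ (Prod.ext ?_ ?_)
  · rw [← (happ L).1, h, (happ M).1]
  · rw [← (happ L).2.1, h, (happ M).2.1]
  · rw [← (happ L).2.2, h, (happ M).2.2]

end Cfsg.Agent.Lib.J1Uniq
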